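import Cfsg.Agent.Lib.Helper36.CharBasic

set_option autoImplicit false
set_option linter.unusedSectionVars false

namespace Cfsg.Agent.Lib.Helper36

open scoped ComplexConjugate

universe u v

section Coh

variable {L : Type u} [Group L] [Fintype L] {G : Type v} [Group G] [Fintype G]

theorem mem_zspan_union {X Y : Set (L → ℂ)} {f : L → ℂ} :
    f ∈ zspan (X ∪ Y) ↔ ∃ a ∈ zspan X, ∃ b ∈ zspan Y, f = a + b := by
  show f ∈ Submodule.span ℤ (X ∪ Y) ↔ _
  rw [Submodule.span_union, Submodule.mem_sup]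
  constructor
  · rintro ⟨a, ha, b, hb, rfl⟩
    exact ⟨a, ha, b, hb, rfl⟩
  · rintro ⟨a, ha, b, hb, rfl⟩
    exact ⟨a, ha, b, hb, rfl⟩

theorem isoOn_zspan_sum {S : Set (L → ℂ)} {τ : (L → ℂ) → (G → ℂ)}
    (h : IsLinearIsometryOn (zspan S) τ) (s : Finset (L → ℂ)) (c : (L → ℂ) → ℤ)
    (hs : (↑s : Set (L → ℂ)) ⊆ S) :
    τ (∑ ψ ∈ s, c ψ • ψ) = ∑ ψ ∈ s, c ψ • τ ψ := by
  classical
  induction s using Finset.induction_on with
  | empty =>
    simp only [Finset.sum_empty]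
    exact isoOn_zero h (zspan_zero S)
  | insert ψ s hψ ih =>
    have hs' : (↑s : Set (L → ℂ)) ⊆ S := fun x hx => hs (Finset.mem_insert_of_mem hx)
    have hψS : ψ ∈ S := hs (Finset.mem_insert_self ψ s)
    rw [Finset.sum_insert hψ, Finset.sum_insert hψ]
    rw [h.1 _ (zspan_zsmul (subset_zspan S hψS) _) _
      (zspan_sum s _ (fun x hx => zspan_zsmul (subset_zspan S (hs' hx)) _)),
      h.2.1 ψ (subset_zspan S hψS), ih hs']

theorem classInner_zspan_orth {X Y : Set (L → ℂ)} (hX : ∀ χ ∈ X, IsIrrCharacter L χ)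
    (hY : ∀ χ ∈ Y, IsIrrCharacter L χ) (hXY : Disjoint X Y) {a b : L → ℂ}
    (ha : a ∈ zspan X) (hb : b ∈ zspan Y) : classInner a b = 0 := by
  obtain ⟨s, c, hs, rfl⟩ := zspan_exists_decomp ha
  obtain ⟨t, d, ht, rfl⟩ := zspan_exists_decomp hb
  rw [classInner_sum_left]
  apply Finset.sum_eq_zero
  intro χ hχ
  rw [classInner_sum_right]
  apply Finset.sum_eq_zero
  intro η hη
  rw [classInner_zsmul_left, classInner_zsmul_right]
  have hne : χ ≠ η := by
    rintro rfl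
    exact Set.disjoint_left.mp hXY (hs hχ) (ht hη)
  rw [classInner_irr_ne (hX χ (hs hχ)) (hY η (ht hη)) hne]
  simp

theorem classInner_iso_orth {X Y : Set (L → ℂ)} {σ τ : (L → ℂ) → (G → ℂ)}
    (hσ : IsLinearIsometryOn (zspan X) σ) (hτ : IsLinearIsometryOn (zspan Y) τ)
    (horth : ∀ χ ∈ X, ∀ η ∈ Y, classInner (σ χ) (τ η) = 0) {a b : L → ℂ}
    (ha : a ∈ zspan X) (hb : b ∈ zspan Y) : classInner (σ a) (τ b) = 0 := by
  obtain ⟨s, c, hs, rfl⟩ := zspan_exists_decomp ha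
  obtain ⟨t, d, ht, rfl⟩ := zspan_exists_decomp hb
  rw [isoOn_zspan_sum hσ s c hs, isoOn_zspan_sum hτ t d ht, classInner_sum_left]
  apply Finset.sum_eq_zero
  intro χ hχ
  rw [classInner_sum_right]
  apply Finset.sum_eq_zero
  intro η hη
  rw [classInner_zsmul_left, classInner_zsmul_right, horth χ (hs hχ) η (ht hη)]
  simp

theorem zspan_decomp_unique {X Y : Set (L → ℂ)} (hX : ∀ χ ∈ X, IsIrrCharacter L χ)
    (hY : ∀ χ ∈ Y, IsIrrCharacter L χ) (hXY : Disjoint X Y) {a a' b b' : L → ℂ}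
    (ha : a ∈ zspan X) (ha' : a' ∈ zspan X) (hb : b ∈ zspan Y) (hb' : b' ∈ zspan Y)
    (h : a + b = a' + b') : a = a' ∧ b = b' := by
  have h1 : a - a' = b' - b := by
    rw [sub_eq_sub_iff_add_eq_add, h, add_comm]
  have h2 : classInner (a - a') (a - a') = 0 := by
    conv_lhs => rw [h1]
    rw [← h1]
    exact classInner_zspan_orth hX hY hXY (zspan_sub ha ha') (by rw [h1]; exact zspan_sub hb' hb)
  have h3 : a - a' = 0 := classInner_self_eq_zero h2
  have h4 : b' - b = 0 := by rw [← h1, h3]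
  exact ⟨sub_eq_zero.mp h3, (sub_eq_zero.mp h4).symm⟩

open Classical in
/-- The map gluing `σ` on `zspan X` and `τ` on `zspan Y`. -/
noncomputable def glueMap (X Y : Set (L → ℂ)) (σ τ : (L → ℂ) → (G → ℂ)) (f : L → ℂ) : G → ℂ :=
  if h : ∃ a ∈ zspan X, ∃ b ∈ zspan Y, f = a + b then
    σ (Classical.choose h) + τ (Classical.choose (Classical.choose_spec h).2)
  else 0

theorem glueMap_apply {X Y : Set (L → ℂ)} (hX : ∀ χ ∈ X, IsIrrCharacter L χ)
    (hY : ∀ χ ∈ Y, IsIrrCharacter L χ) (hXY : Disjoint X Y) (σ τ : (L → ℂ) → (G → ℂ))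
    {a b : L → ℂ} (ha : a ∈ zspan X) (hb : b ∈ zspan Y) :
    glueMap X Y σ τ (a + b) = σ a + τ b := by
  have h : ∃ a' ∈ zspan X, ∃ b' ∈ zspan Y, a + b = a' + b' := ⟨a, ha, b, hb, rfl⟩
  unfold glueMap
  rw [dif_pos h]
  have h1 := (Classical.choose_spec h).1
  have h2 := (Classical.choose_spec (Classical.choose_spec h).2).1
  have h3 := (Classical.choose_spec (Classical.choose_spec h).2).2
  obtain ⟨e1, e2⟩ := zspan_decomp_unique hX hY hXY ha h1 hb h2 h3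
  exact congrArg₂ (· + ·) (congrArg σ e1).symm (congrArg τ e2).symm

theorem glueMap_isometry {X Y : Set (L → ℂ)} (hX : ∀ χ ∈ X, IsIrrCharacter L χ)
    (hY : ∀ χ ∈ Y, IsIrrCharacter L χ) (hXY : Disjoint X Y) {σ τ : (L → ℂ) → (G → ℂ)}
    (hσ : IsLinearIsometryOn (zspan X) σ) (hτ : IsLinearIsometryOn (zspan Y) τ)
    (horth : ∀ χ ∈ X, ∀ η ∈ Y, classInner (σ χ) (τ η) = 0) :
    IsLinearIsometryOn (zspan (X ∪ Y)) (glueMap X Y σ τ) := by
  refine ⟨?_, ?_, ?_, ?_⟩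
  · intro f hf f' hf'
    obtain ⟨a, ha, b, hb, rfl⟩ := mem_zspan_union.mp hf
    obtain ⟨a', ha', b', hb', rfl⟩ := mem_zspan_union.mp hf'
    have e : a + b + (a' + b') = (a + a') + (b + b') := by abel
    rw [e, glueMap_apply hX hY hXY σ τ (zspan_add ha ha') (zspan_add hb hb'),
      glueMap_apply hX hY hXY σ τ ha hb, glueMap_apply hX hY hXY σ τ ha' hb',
      hσ.1 a ha a' ha', hτ.1 b hb b' hb']
    abel
  · intro f hf n
    obtain ⟨a, ha, b, hb, rfl⟩ := mem_zspan_union.mp hf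
    rw [smul_add, glueMap_apply hX hY hXY σ τ (zspan_zsmul ha n) (zspan_zsmul hb n),
      glueMap_apply hX hY hXY σ τ ha hb, hσ.2.1 a ha, hτ.2.1 b hb, smul_add]
  · intro f hf f' hf'
    obtain ⟨a, ha, b, hb, rfl⟩ := mem_zspan_union.mp hf
    obtain ⟨a', ha', b', hb', rfl⟩ := mem_zspan_union.mp hf'
    rw [glueMap_apply hX hY hXY σ τ ha hb, glueMap_apply hX hY hXY σ τ ha' hb']
    simp only [classInner_add_left, classInner_add_right]
    rw [hσ.2.2.1 a ha a' ha', hτ.2.2.1 b hb b' hb', classInner_iso_orth hσ hτ horth ha hb',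
      classInner_zspan_orth hX hY hXY ha hb']
    have e1 : classInner (τ b) (σ a') = 0 := by
      rw [classInner_conj_symm, classInner_iso_orth hσ hτ horth ha' hb]; simp
    have e2 : classInner b a' = 0 := by
      rw [classInner_conj_symm, classInner_zspan_orth hX hY hXY ha' hb]; simp
    rw [e1, e2]
  · intro f hf
    obtain ⟨a, ha, b, hb, rfl⟩ := mem_zspan_union.mp hf
    rw [glueMap_apply hX hY hXY σ τ ha hb]
    exact isGenChar_add (hσ.2.2.2 a ha) (hτ.2.2.2 b hb)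

/-- The difference `ψ(1) χ - χ(1) ψ` of two characters with natural degrees. -/
theorem degDiff_mem {S : Set (L → ℂ)} {χ ψ : L → ℂ} (hχ : χ ∈ S) (hψ : ψ ∈ S) (dχ dψ : ℕ)
    (hχ1 : χ 1 = dχ) (hψ1 : ψ 1 = dψ) :
    (dψ : ℤ) • χ - (dχ : ℤ) • ψ ∈ zspanOn S {1}ᶜ := by
  rw [mem_zspanOn_compl_one]
  refine ⟨zspan_sub (zspan_zsmul (subset_zspan S hχ) _) (zspan_zsmul (subset_zspan S hψ) _), ?_⟩
  simp [hχ1, hψ1]
  ring

theorem zspan_apply_one_int {S : Set (L → ℂ)} (hS : ∀ χ ∈ S, IsIrrCharacter L χ) {a : L → ℂ}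
    (ha : a ∈ zspan S) : ∃ m : ℤ, a 1 = m :=
  gen_apply_one_int (zspan_isGenChar hS ha)

end Coh

end Cfsg.Agent.Lib.Helper36
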