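import Mathlib
import Cfsg.Prelude.Def_Sporadic_a
import Cfsg.Agent.S0363
import Cfsg.Agent.Lib.Helper9.Golay
import Cfsg.Agent.Lib.Helper9.Steiner5824
import Cfsg.Agent.Lib.Helper10.LeechClosed
import Cfsg.Agent.Lib.Helper10.GolayBasic

/-!
Combinatorics of the concrete Golay code: octads versus dodecads.
-/

set_option autoImplicit false

namespace Cfsg.Agent.Lib.Helper36

open Finset Cfsg Cfsg.Agent.Lib.Helper9 Cfsg.Agent.Lib.Helper10

theorem golay_card_pt : Fintype.card Cfsg.GolayPt = 24 := by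
  simp [ZMod.card]

theorem octads_steiner : Cfsg.IsSteinerSystem 5 8 Cfsg.octads := Cfsg.Agent.S0363.result

/-- Supports of code words have 0, 8, 12, 16 or 24 points. -/
theorem gsup_card {S : Finset Cfsg.GolayPt} (hS : S ∈ gsup) :
    S.card = 0 ∨ S.card = 8 ∨ S.card = 12 ∨ S.card = 16 ∨ S.card = 24 := by
  obtain ⟨w, hw, rfl⟩ := hS
  rw [card_support₂]
  exact wt_of_mem_golay hw

theorem octad_mem_gsup {o : Finset Cfsg.GolayPt} (ho : o ∈ Cfsg.octads) : o ∈ gsup := ho.1

theorem dodecad_mem_gsup {d : Finset Cfsg.GolayPt} (hd : d ∈ Cfsg.dodecads) : d ∈ gsup := hd.1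

theorem mem_octads_of {S : Finset Cfsg.GolayPt} (hS : S ∈ gsup) (h : S.card = 8) :
    S ∈ Cfsg.octads := ⟨hS, h⟩

theorem mem_dodecads_of {S : Finset Cfsg.GolayPt} (hS : S ∈ gsup) (h : S.card = 12) :
    S ∈ Cfsg.dodecads := ⟨hS, h⟩

/-- An octad meets a dodecad in 2, 4 or 6 points. -/
theorem octad_inter_dodecad {o d : Finset Cfsg.GolayPt} (ho : o ∈ Cfsg.octads)
    (hd : d ∈ Cfsg.dodecads) : (d ∩ o).card = 2 ∨ (d ∩ o).card = 4 ∨ (d ∩ o).card = 6 := by
  have h1 := gsup_card (symmDiff_mem_gsup hd.1 ho.1)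
  have h2 := card_symmDiff_add d o
  rw [hd.2, ho.2] at h2
  have h3 : (d ∩ o).card ≤ 8 := by
    rw [← ho.2]; exact card_le_card inter_subset_right
  omega

/-- Number of octads meeting a dodecad in exactly 2, 4, 6 points: 132, 495, 132. -/
theorem octads_meeting_dodecad {d : Finset Cfsg.GolayPt} (hd : d ∈ Cfsg.dodecads) :
    ((blocksFin Cfsg.octads).filter (fun o => (d ∩ o).card = 2)).card = 132 ∧
    ((blocksFin Cfsg.octads).filter (fun o => (d ∩ o).card = 4)).card = 495 ∧
    ((blocksFin Cfsg.octads).filter (fun o => (d ∩ o).card = 6)).card = 132 := by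
  have e := fun j (hj : j ≤ 5) =>
    sum_choose_mul_card_inter octads_steiner ∅ d (disjoint_empty_left d) j (by simpa using hj)
  have e0 := e 0 (by norm_num)
  have e1 := e 1 (by norm_num)
  have e2 := e 2 (by norm_num)
  have hz : ∀ i, i ≠ 2 → i ≠ 4 → i ≠ 6 →
      ((blocksFin Cfsg.octads).filter (fun c => ∅ ⊆ c ∧ (d ∩ c).card = i)).card = 0 := by
    intro i h2 h4 h6
    rw [card_eq_zero, filter_eq_empty_iff]
    intro c hc hci
    rw [mem_blocksFin] at hc
    have := octad_inter_dodecad hc hd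
    omega
  have hx : ∀ i, ((blocksFin Cfsg.octads).filter (fun c => ∅ ⊆ c ∧ (d ∩ c).card = i)).card
      = ((blocksFin Cfsg.octads).filter (fun c => (d ∩ c).card = i)).card := by
    intro i
    simp
  simp only [hd.2, golay_card_pt, card_empty, zero_add, sum_range_succ, sum_range_zero] at e0 e1 e2
  rw [hz 0 (by norm_num) (by norm_num) (by norm_num), hz 1 (by norm_num) (by norm_num) (by norm_num),
    hz 3 (by norm_num) (by norm_num) (by norm_num), hz 5 (by norm_num) (by norm_num) (by norm_num),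
    hz 7 (by norm_num) (by norm_num) (by norm_num), hz 8 (by norm_num) (by norm_num) (by norm_num),
    hz 9 (by norm_num) (by norm_num) (by norm_num), hz 10 (by norm_num) (by norm_num) (by norm_num),
    hz 11 (by norm_num) (by norm_num) (by norm_num), hz 12 (by norm_num) (by norm_num) (by norm_num),
    hx 2, hx 4, hx 6] at e0 e1 e2
  norm_num [Nat.choose] at e0 e1 e2
  omega

end Cfsg.Agent.Lib.Helper36
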