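import Mathlib

/-!
Maximality of point stabilisers from the suborbit structure (a block-size argument), and
transfer along the action.
-/

set_option autoImplicit false

namespace Cfsg.Agent.Lib.Helper36

open scoped Pointwise

theorem ncard_biUnion_fin {Ω : Type*} [Finite Ω] {m : ℕ} (C : Fin m → Set Ω)
    (hdisj : ∀ i j, i ≠ j → Disjoint (C i) (C j)) (J : Finset (Fin m)) :
    (⋃ c ∈ J, C c).ncard = ∑ c ∈ J, (C c).ncard := by
  classical
  induction J using Finset.induction_on with
  | empty => simp
  | insert i J hi ih =>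
    rw [Finset.set_biUnion_insert, Set.ncard_union_eq ?_ (Set.toFinite _) (Set.toFinite _), ih,
      Finset.sum_insert hi]
    rw [Set.disjoint_iUnion₂_right]
    intro j hj
    exact hdisj i j (by rintro rfl; exact hi hj)

/-- A stabiliser is a maximal subgroup as soon as every strictly larger subgroup already moves
the point to every point of its orbit. -/
theorem isCoatom_stabilizer_of_orbit {G Ω : Type*} [Group G] [MulAction G Ω] (a : Ω)
    (hne : ∃ g : G, g • a ≠ a)
    (h : ∀ K : Subgroup G, MulAction.stabilizer G a < K → ∀ g : G, ∃ k ∈ K, k • a = g • a) :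
    IsCoatom (MulAction.stabilizer G a) := by
  refine ⟨?_, ?_⟩
  · intro htop
    obtain ⟨g, hg⟩ := hne
    have : g ∈ MulAction.stabilizer G a := by rw [htop]; exact Subgroup.mem_top g
    exact hg this
  · intro K hK
    rw [eq_top_iff]
    intro g _
    obtain ⟨k, hk, hka⟩ := h K hK g
    have h1 : k⁻¹ * g ∈ MulAction.stabilizer G a := by
      rw [MulAction.mem_stabilizer_iff, mul_smul, ← hka, inv_smul_smul]
    have h2 : k⁻¹ * g ∈ K := hK.le h1
    have h3 : k * (k⁻¹ * g) ∈ K := K.mul_mem hk h2
    rwa [mul_inv_cancel_left] at h3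

/-- Maximality of a stabiliser from its suborbits: the orbit of `a` is `{a}` together with
classes `C c` on each of which the stabiliser is transitive, and no proper union of classes
together with `a` has size dividing the size of the orbit. -/
theorem isCoatom_stabilizer_of_suborbits {G Ω : Type*} [Group G] [MulAction G Ω] [Finite Ω] (a : Ω)
    {m : ℕ} (C : Fin m → Set Ω) (n : Fin m → ℕ)
    (hcover : MulAction.orbit G a = {a} ∪ ⋃ c, C c)
    (ha : ∀ c, a ∉ C c)
    (hdisj : ∀ i j, i ≠ j → Disjoint (C i) (C j))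
    (hn : ∀ c, (C c).ncard = n c)
    (htrans : ∀ c, ∀ x ∈ C c, ∀ y ∈ C c, ∃ g : G, g • a = a ∧ g • x = y)
    (hm : ∃ c, (C c).Nonempty)
    (harith : ∀ J : Finset (Fin m), J.Nonempty →
      (1 + ∑ c ∈ J, n c) ∣ (1 + ∑ c, n c) → J = Finset.univ) :
    IsCoatom (MulAction.stabilizer G a) := by
  classical
  have hsub : ∀ c, C c ⊆ MulAction.orbit G a := by
    intro c x hx
    rw [hcover]
    exact Or.inr (Set.mem_iUnion.mpr ⟨c, hx⟩)
  -- size of `{a} ∪ ⋃_{c ∈ J} C c`
  have hsize : ∀ J : Finset (Fin m), (insert a (⋃ c ∈ J, C c)).ncard = 1 + ∑ c ∈ J, n c := by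
    intro J
    rw [Set.ncard_insert_of_notMem ?_ (Set.toFinite _), ncard_biUnion_fin C hdisj J,
      Finset.sum_congr rfl (fun c _ => hn c), add_comm]
    simp only [Set.mem_iUnion, not_exists]
    intro c _ hc
    exact ha c hc
  have horb : (MulAction.orbit G a).ncard = 1 + ∑ c, n c := by
    rw [← hsize Finset.univ, hcover]
    congr 1
    ext x
    simp
  apply isCoatom_stabilizer_of_orbit a
  · obtain ⟨c, x, hx⟩ := hm
    obtain ⟨g, rfl⟩ := hsub c hx
    refine ⟨g, ?_⟩
    intro hg
    apply ha c
    have : g • a = a := hg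
    rw [← this]
    exact hx
  · intro K hK g
    -- the orbit of `a` under `K`
    obtain ⟨B, hB⟩ : ∃ B : Set Ω, B = {x | ∃ k ∈ K, k • a = x} := ⟨_, rfl⟩
    have hBorb : B = MulAction.orbit K a := by
      rw [hB]
      ext x
      constructor
      · rintro ⟨k, hk, rfl⟩
        exact ⟨⟨k, hk⟩, rfl⟩
      · rintro ⟨⟨k, hk⟩, rfl⟩
        exact ⟨k, hk, rfl⟩
    obtain ⟨J, hJ⟩ : ∃ J : Finset (Fin m), J = Finset.univ.filter (fun c => (C c ∩ B).Nonempty) :=
      ⟨_, rfl⟩
    have hBeq : B = insert a (⋃ c ∈ J, C c) := by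
      ext x
      constructor
      · intro hx
        by_cases hxa : x = a
        · exact Or.inl hxa
        · right
          have hxo : x ∈ MulAction.orbit G a := by
            rw [hB] at hx
            obtain ⟨k, _, rfl⟩ := hx
            exact ⟨k, rfl⟩
          rw [hcover] at hxo
          rcases hxo with hxo | hxo
          · exact absurd hxo hxa
          · obtain ⟨c, hc⟩ := Set.mem_iUnion.mp hxo
            simp only [Set.mem_iUnion, exists_prop]
            refine ⟨c, ?_, hc⟩
            rw [hJ, Finset.mem_filter]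
            exact ⟨Finset.mem_univ _, x, hc, hx⟩
      · rintro (rfl | hx)
        · rw [hB]
          exact ⟨1, K.one_mem, one_smul _ _⟩
        · simp only [Set.mem_iUnion, exists_prop] at hx
          obtain ⟨c, hcJ, hxc⟩ := hx
          rw [hJ, Finset.mem_filter] at hcJ
          obtain ⟨y, hyc, hyB⟩ := hcJ.2
          obtain ⟨s, hsa, hsy⟩ := htrans c y hyc x hxc
          rw [hB] at hyB ⊢
          obtain ⟨k, hk, rfl⟩ := hyB
          exact ⟨s * k, K.mul_mem (hK.le hsa) hk, by rw [mul_smul, hsy]⟩
    have hBcard : B.ncard = (MulAction.stabilizer G a).relIndex K := by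
      rw [hBorb, ← MulAction.index_stabilizer, Subgroup.relIndex]
      congr 1
    have hdvd : (1 + ∑ c ∈ J, n c) ∣ (1 + ∑ c, n c) := by
      rw [← hsize J, ← hBeq, hBcard, ← horb, ← MulAction.index_stabilizer]
      exact Subgroup.relIndex_dvd_index_of_le hK.le
    have hJne : J.Nonempty := by
      obtain ⟨k, hk, hks⟩ := SetLike.exists_of_lt hK
      have hka : k • a ≠ a := hks
      have hkB : k • a ∈ B := by rw [hB]; exact ⟨k, hk, rfl⟩
      have hko : k • a ∈ MulAction.orbit G a := ⟨k, rfl⟩
      rw [hcover] at hko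
      rcases hko with hko | hko
      · exact absurd hko hka
      · obtain ⟨c, hc⟩ := Set.mem_iUnion.mp hko
        refine ⟨c, ?_⟩
        rw [hJ, Finset.mem_filter]
        exact ⟨Finset.mem_univ _, k • a, hc, hkB⟩
    have hJuniv := harith J hJne hdvd
    have hBall : B = MulAction.orbit G a := by
      rw [hBeq, hJuniv, hcover]
      ext x
      simp
    have : g • a ∈ B := by rw [hBall]; exact ⟨g, rfl⟩
    rw [hB] at this
    exact this

/-- Maximality of stabilisers is invariant along orbits. -/
theorem isCoatom_stabilizer_smul {G Ω : Type*} [Group G] [MulAction G Ω] (g : G) (a : Ω)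
    (h : IsCoatom (MulAction.stabilizer G a)) : IsCoatom (MulAction.stabilizer G (g • a)) := by
  rw [MulAction.stabilizer_smul_eq_stabilizer_map_conj]
  exact ((MulEquiv.mapSubgroup (MulAut.conj g)).isCoatom_iff _).mpr h

end Cfsg.Agent.Lib.Helper36
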