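import Cfsg.Agent.Lib.Helper36.M24Orb
import Cfsg.Agent.Lib.Helper36.Coatom

/-!
Orbit certificates, continued: classes that are single orbits, partitions into orbits.
-/

set_option autoImplicit false

namespace Cfsg.Agent.Lib.Helper36

open Cfsg Cfsg.Agent.Lib.Helper9
open scoped Pointwise

/-- A certified orbit of masks inside a class with at most as many members is the whole class. -/
theorem orbit_class_of_cert (H : Subgroup (Equiv.Perm GolayPt)) (tabs : List (List ℕ))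
    (htabs : ∀ T ∈ tabs, ∃ σ ∈ H, HasTable σ T) (C : Set (Finset GolayPt)) (n rep : ℕ)
    (Y P D G : ℕ → ℕ) (r : ℕ)
    (hchk : allBelow (nodeOK tabs relMask Y P D G n r) n = true) (hs : sortedB Y n = true)
    (hroot : Y r = rep) (hlt : rep < 2 ^ 24)
    (hinv : ∀ σ ∈ H, σ • ms rep ∈ C) (hcount : C.ncard ≤ n) :
    ∀ x ∈ C, ∃ σ ∈ H, σ • ms rep = x := by
  have h := mask_orbit_cert H tabs htabs Y P D G n r (by rw [hroot]; exact hlt) hchk hs
  rw [hroot] at h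
  have hsub : {y | ∃ σ ∈ H, σ • ms rep = y} ⊆ C := by
    rintro y ⟨σ, hσ, rfl⟩
    exact hinv σ hσ
  have heq := orbit_eq_class H (ms rep) C n hsub hcount h.2
  intro x hx
  have : x ∈ {y | ∃ σ ∈ H, σ • ms rep = y} := by rw [heq]; exact hx
  exact this

/-- Two members of a class which is a certified orbit are conjugate. -/
theorem conj_of_orbit_class {Ω : Type*} [MulAction (Equiv.Perm GolayPt) Ω]
    (H : Subgroup (Equiv.Perm GolayPt)) (x0 : Ω) {C : Set Ω}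
    (h : ∀ x ∈ C, ∃ σ ∈ H, σ • x0 = x) {x y : Ω} (hx : x ∈ C) (hy : y ∈ C) :
    ∃ σ ∈ H, σ • x = y := by
  obtain ⟨σ, hσ, rfl⟩ := h x hx
  obtain ⟨τ, hτ, rfl⟩ := h y hy
  exact ⟨τ * σ⁻¹, H.mul_mem hτ (H.inv_mem hσ), by rw [mul_smul, inv_smul_smul]⟩

/-- Partition of a finite invariant set into orbits: representatives with pairwise different
values of an invariant, lower bounds for the orbit sizes adding up to the size of the set. -/
theorem orbits_partition {Ω : Type*} [MulAction (Equiv.Perm GolayPt) Ω] [Finite Ω]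
    (H : Subgroup (Equiv.Perm GolayPt)) (A : Set Ω) {m : ℕ} (x : Fin m → Ω) (n : Fin m → ℕ)
    (inv : Ω → ℕ)
    (hA : ∀ i, ∀ σ ∈ H, σ • x i ∈ A)
    (hinv : ∀ i, ∀ σ ∈ H, inv (σ • x i) = inv (x i))
    (hsep : ∀ i j, inv (x i) = inv (x j) → i = j)
    (hn : ∀ i, n i ≤ ({y | ∃ σ ∈ H, σ • x i = y} : Set Ω).ncard)
    (hsum : A.ncard ≤ ∑ i, n i) :
    (∀ i, ({y | ∃ σ ∈ H, σ • x i = y} : Set Ω).ncard = n i) ∧
    (∀ y ∈ A, ∃ i, ∃ σ ∈ H, σ • x i = y) ∧
    (∀ y ∈ A, ∀ i, inv y = inv (x i) → ∃ σ ∈ H, σ • x i = y) := by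
  classical
  obtain ⟨O, hO⟩ : ∃ O : Fin m → Set Ω, O = fun i => {y | ∃ σ ∈ H, σ • x i = y} := ⟨_, rfl⟩
  have hOi : ∀ i, O i = {y | ∃ σ ∈ H, σ • x i = y} := fun i => by rw [hO]
  have hdisj : ∀ i j, i ≠ j → Disjoint (O i) (O j) := by
    intro i j hij
    rw [Set.disjoint_left]
    intro y hy hy'
    rw [hOi] at hy hy'
    obtain ⟨σ, hσ, rfl⟩ := hy
    obtain ⟨τ, hτ, hτe⟩ := hy'
    apply hij
    apply hsep
    rw [← hinv i σ hσ, ← hτe, hinv j τ hτ]
  have hsubA : (⋃ c ∈ (Finset.univ : Finset (Fin m)), O c) ⊆ A := by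
    intro y hy
    simp only [Set.mem_iUnion, exists_prop] at hy
    obtain ⟨i, -, hy⟩ := hy
    rw [hOi] at hy
    obtain ⟨σ, hσ, rfl⟩ := hy
    exact hA i σ hσ
  have hcard := ncard_biUnion_fin O hdisj Finset.univ
  have hle : (⋃ c ∈ (Finset.univ : Finset (Fin m)), O c).ncard ≤ A.ncard :=
    Set.ncard_le_ncard hsubA (Set.toFinite _)
  have hn' : ∀ i, n i ≤ (O i).ncard := fun i => by rw [hOi]; exact hn i
  have hsum' : ∑ i, n i ≤ ∑ i, (O i).ncard := Finset.sum_le_sum (fun i _ => hn' i)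
  have heqsum : ∑ i, (O i).ncard = ∑ i, n i := by omega
  have heach : ∀ i, (O i).ncard = n i := by
    intro i
    by_contra hne
    have hlt : n i < (O i).ncard := lt_of_le_of_ne (hn' i) (Ne.symm hne)
    have : ∑ i, n i < ∑ i, (O i).ncard :=
      Finset.sum_lt_sum (fun i _ => hn' i) ⟨i, Finset.mem_univ _, hlt⟩
    omega
  have hUeq : (⋃ c ∈ (Finset.univ : Finset (Fin m)), O c) = A :=
    Set.eq_of_subset_of_ncard_le hsubA (by omega) (Set.toFinite _)
  have hcov : ∀ y ∈ A, ∃ i, ∃ σ ∈ H, σ • x i = y := by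
    intro y hy
    rw [← hUeq] at hy
    simp only [Set.mem_iUnion, exists_prop] at hy
    obtain ⟨i, -, hy⟩ := hy
    rw [hOi] at hy
    exact ⟨i, hy⟩
  refine ⟨fun i => by rw [← hOi]; exact heach i, hcov, ?_⟩
  intro y hy i hyi
  obtain ⟨j, σ, hσ, rfl⟩ := hcov y hy
  have : j = i := hsep j i (by rw [← hinv j σ hσ, hyi])
  subst this
  exact ⟨σ, hσ, rfl⟩

end Cfsg.Agent.Lib.Helper36
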