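import Cfsg.Agent.Lib.Helper36.M24DodData
import Cfsg.Agent.Lib.Helper36.M24Orb2
import Cfsg.Agent.Lib.Helper36.GolayComb
import Cfsg.Agent.S1560

/-!
The stabiliser of a dodecad in `M24`: transitivity of `M24` on dodecads and of the dodecad
stabiliser on the dodecads meeting the dodecad in a given number of points.
-/

set_option autoImplicit false

namespace Cfsg.Agent.Lib.Helper36

open Cfsg Cfsg.Agent.Lib.Helper9 Cfsg.Agent.Lib.Helper10
open scoped Pointwise

/-- The standard dodecad (the squares modulo 23, with zero). -/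
def d0 : Finset GolayPt := ms 340831

theorem d0_mem : d0 ∈ dodecads := ms_mem_dodecads (by decide +kernel) (by decide +kernel)

/-- `M24` is transitive on dodecads. -/
theorem exists_smul_d0 {d : Finset GolayPt} (hd : d ∈ dodecads) : ∃ σ ∈ M24, σ • d0 = d :=
  orbit_class_of_cert M24 m24Tabs (tabs_M24 m24Tabs_ok) dodecads 2576 340831 _ _ _ _ 23
    dodAll_chk dodAll_sorted dodAll_root (by norm_num)
    (fun σ hσ => smul_dodecad_mem hσ d0_mem) (le_of_eq ncard_dodecads) d hd

theorem dodecads_transitive {d d' : Finset GolayPt} (hd : d ∈ dodecads) (hd' : d' ∈ dodecads) :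
    ∃ σ ∈ M24, σ • d = d' := by
  obtain ⟨σ, hσ, rfl⟩ := exists_smul_d0 hd
  obtain ⟨τ, hτ, rfl⟩ := exists_smul_d0 hd'
  exact ⟨τ * σ⁻¹, M24.mul_mem hτ (M24.inv_mem hσ), by rw [mul_smul, inv_smul_smul]⟩

/-- A certified orbit of the stabiliser of the standard dodecad is a full intersection class. -/
theorem dod_orbit_class (k n rep : ℕ) (Y P D G : ℕ → ℕ) (r : ℕ)
    (hchk : allBelow (nodeOK dodTabs relMask Y P D G n r) n = true) (hs : sortedB Y n = true)
    (hroot : Y r = rep) (hlt : rep < 2 ^ 24) (hrep1 : inCode rep = true) (hrep2 : popc rep = 12)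
    (hrep3 : popc (340831 &&& rep) = k)
    (hcount : ((blocksFin dodecads).filter (fun d' => (d0 ∩ d').card = k)).card = n)
    {d' d'' : Finset GolayPt} (hd' : d' ∈ dodecads) (hd'' : d'' ∈ dodecads)
    (hk' : (d0 ∩ d').card = k) (hk'' : (d0 ∩ d'').card = k) :
    ∃ σ ∈ stabMask 340831, σ • d' = d'' := by
  have h := orbit_class_of_cert (stabMask 340831) dodTabs (tabs_stabMask dodTabs_ok)
    {d' : Finset GolayPt | d' ∈ dodecads ∧ (d0 ∩ d').card = k} n rep Y P D G r hchk hs hroot hlt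
    (by
      intro σ hσ
      rw [mem_stabMask] at hσ
      refine ⟨smul_dodecad_mem hσ.1 (ms_mem_dodecads hrep1 hrep2), ?_⟩
      rw [d0, card_inter_smul hσ.2, ← ms_and, card_ms, hrep3])
    (by rw [Cfsg.Agent.S1560.set_eq, Set.ncard_coe_finset, hcount])
  exact conj_of_orbit_class _ _ h ⟨hd', hk'⟩ ⟨hd'', hk''⟩

theorem eq_compl_of_inter_zero {d d' : Finset GolayPt} (hd : d ∈ dodecads) (hd' : d' ∈ dodecads)
    (h : (d ∩ d').card = 0) : d' = dᶜ := by
  have hsub : d' ⊆ dᶜ := by
    intro a ha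
    rw [Finset.mem_compl]
    intro had
    have : a ∈ d ∩ d' := Finset.mem_inter.mpr ⟨had, ha⟩
    rw [Finset.card_eq_zero.mp h] at this
    simp at this
  exact Finset.eq_of_subset_of_card_le hsub
    (by rw [Finset.card_compl, golay_card_pt, hd.2, hd'.2])

/-- The stabiliser of the standard dodecad is transitive on the dodecads meeting it in a given
number of points. -/
theorem dod0_transitive {d' d'' : Finset GolayPt} (hd' : d' ∈ dodecads) (hd'' : d'' ∈ dodecads)
    (h : (d0 ∩ d').card = (d0 ∩ d'').card) : ∃ σ ∈ stabMask 340831, σ • d' = d'' := by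
  rcases Cfsg.Agent.S1560.inter_cases d0_mem hd' with h0 | h4 | h6 | h8 | h12
  · have e1 := eq_compl_of_inter_zero d0_mem hd' h0
    have e2 := eq_compl_of_inter_zero d0_mem hd'' (h ▸ h0)
    exact ⟨1, Subgroup.one_mem _, by rw [one_smul, e1, e2]⟩
  · exact dod_orbit_class 4 495 1035448 _ _ _ _ 0 dod4_chk dod4_sorted dod4_root (by norm_num)
      (by decide +kernel) (by decide +kernel) (by decide +kernel)
      (Cfsg.Agent.S1560.card_four d0_mem) hd' hd'' h4 (h ▸ h4)
  · exact dod_orbit_class 6 1584 57274 _ _ _ _ 0 dod6_chk dod6_sorted dod6_root (by norm_num)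
      (by decide +kernel) (by decide +kernel) (by decide +kernel)
      (Cfsg.Agent.S1560.card_six d0_mem) hd' hd'' h6 (h ▸ h6)
  · exact dod_orbit_class 8 495 28637 _ _ _ _ 0 dod8_chk dod8_sorted dod8_root (by norm_num)
      (by decide +kernel) (by decide +kernel) (by decide +kernel)
      (Cfsg.Agent.S1560.card_eight d0_mem) hd' hd'' h8 (h ▸ h8)
  · have e1 := Cfsg.Agent.S1560.eq_of_inter_twelve d0_mem hd' h12
    have e2 := Cfsg.Agent.S1560.eq_of_inter_twelve d0_mem hd'' (h ▸ h12)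
    exact ⟨1, Subgroup.one_mem _, by rw [one_smul, e1, e2]⟩

/-- Transfer of "the stabiliser of `x0` moves `y'` to `y''`" along an element of `M24`. -/
theorem transfer_stab {m : ℕ} {γ : Equiv.Perm GolayPt} (hγ : γ ∈ M24) {y' y'' : Finset GolayPt}
    (h : ∃ σ ∈ stabMask m, σ • (γ⁻¹ • y') = γ⁻¹ • y'') :
    ∃ g : Equiv.Perm GolayPt, g ∈ M24 ∧ g • (γ • ms m) = γ • ms m ∧ g • y' = y'' := by
  obtain ⟨σ, hσ, hσe⟩ := h
  rw [mem_stabMask] at hσ
  refine ⟨γ * σ * γ⁻¹, M24.mul_mem (M24.mul_mem hγ hσ.1) (M24.inv_mem hγ), ?_, ?_⟩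
  · rw [mul_smul, mul_smul, inv_smul_smul]
    exact congrArg (γ • ·) hσ.2
  · rw [mul_smul, mul_smul, hσe, smul_inv_smul]

theorem card_inter_inv_smul (γ : Equiv.Perm GolayPt) (a x : Finset GolayPt) :
    (a ∩ γ⁻¹ • x).card = (γ • a ∩ x).card := by
  have : γ • a ∩ x = γ • (a ∩ γ⁻¹ • x) := by
    rw [Finset.smul_finset_inter, smul_inv_smul]
  rw [this, Finset.card_smul_finset]

/-- The stabiliser of any dodecad is transitive on the dodecads meeting it in a given number
of points. -/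
theorem dod_transitive {d d' d'' : Finset GolayPt} (hd : d ∈ dodecads) (hd' : d' ∈ dodecads)
    (hd'' : d'' ∈ dodecads) (h : (d ∩ d').card = (d ∩ d'').card) :
    ∃ g : Equiv.Perm GolayPt, g ∈ M24 ∧ g • d = d ∧ g • d' = d'' := by
  obtain ⟨γ, hγ, rfl⟩ := exists_smul_d0 hd
  have hγi : γ⁻¹ ∈ M24 := M24.inv_mem hγ
  exact transfer_stab hγ (dod0_transitive (smul_dodecad_mem hγi hd') (smul_dodecad_mem hγi hd'')
    (by rw [card_inter_inv_smul, card_inter_inv_smul, h]))

end Cfsg.Agent.Lib.Helper36
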