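import Cfsg.Agent.Lib.Helper36.M24OctStab

/-!
The pointwise stabiliser of an octad (order 16) is regular on the 16 points outside the octad; the
octad stabiliser is the split extension of it by the stabiliser of an outside point, which is
isomorphic to `A8`.
-/

set_option autoImplicit false

namespace Cfsg.Agent.Lib.Helper36

open Cfsg Cfsg.Agent.Lib.Helper9 Cfsg.Agent.Lib.Helper10
open scoped Pointwise

theorem perm_apply_inv {α : Type*} (g : Equiv.Perm α) (x : α) : g (g⁻¹ x) = x :=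
  g.apply_symm_apply x

theorem perm_inv_apply {α : Type*} (g : Equiv.Perm α) (x : α) : g⁻¹ (g x) = x :=
  g.symm_apply_apply x

/-- A table is the identity, or moves every index outside the reference octad. -/
def semiregT (T : List ℕ) : Bool :=
  T == idT || (List.range 24).all (fun c => octL.contains c || T.getD c 0 != c)

theorem W16_semireg : W16.all (fun w => semiregT (prodT sgsTabs w)) = true := by decide +kernel

theorem K0_free {σ : Equiv.Perm GolayPt} (hσ : σ ∈ K0) {p : GolayPt} (hp : p ∉ O0f)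
    (h : σ p = p) : σ = 1 := by
  obtain ⟨w, hw, -, hT⟩ := exists_word16 hσ
  have h1 := List.all_eq_true.mp W16_semireg w hw
  rw [semiregT, Bool.or_eq_true] at h1
  rcases h1 with h1 | h1
  · rw [beq_iff_eq] at h1
    rw [h1] at hT
    exact eq_one_of_hasTable_idT hT
  · exfalso
    have h2 := List.all_eq_true.mp h1 (idx p) (List.mem_range.mpr (idx_lt p))
    rw [Bool.or_eq_true] at h2
    rcases h2 with h2 | h2
    · apply hp
      rw [mem_O0f]
      exact (octL_spec _ (idx_lt p)).mpr (by simpa using h2)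
    · have h3 := hT.2 p
      rw [h] at h3
      have h4 := congrArg idx h3
      rw [idx_pt (hT.getD_lt _)] at h4
      exact (bne_iff_ne.mp h2) h4.symm

/-- A non-trivial element fixing an octad pointwise fixes no further point. -/
theorem fix_free {o : Finset GolayPt} (ho : o ∈ octads) {g : Equiv.Perm GolayPt}
    (hg : g ∈ M24 ⊓ fixingSubgroup (Equiv.Perm GolayPt) (o : Set GolayPt)) {p : GolayPt}
    (hp : p ∉ o) (h : g p = p) : g = 1 := by
  obtain ⟨γ, hγ, rfl⟩ := exists_smul_o0 ho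
  have h1 : MulAut.conj γ⁻¹ g ∈ K0 := (mem_fix_smul_iff hγ o0 g).mp hg
  have h2 : γ⁻¹ p ∉ O0f := by
    intro h3
    apply hp
    have h4 := Finset.smul_mem_smul_finset (a := γ) h3
    rw [Equiv.Perm.smul_def, perm_apply_inv] at h4
    exact h4
  have h3 : (MulAut.conj γ⁻¹ g) (γ⁻¹ p) = γ⁻¹ p := by
    rw [MulAut.conj_apply, inv_inv, Equiv.Perm.mul_apply, Equiv.Perm.mul_apply,
      perm_apply_inv, h]
  have h4 := K0_free h1 h2 h3
  exact (MulEquiv.map_eq_one_iff (MulAut.conj γ⁻¹)).mp h4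

theorem fix_not_mem {o : Finset GolayPt} {g : Equiv.Perm GolayPt} (hg : g ∈ stabIn o)
    {p : GolayPt} (hp : p ∉ o) : g p ∉ o :=
  fun h => hp ((mem_iff_of_smul_eq (mem_stabIn.mp hg).2 p).mp h)

theorem card_outside {o : Finset GolayPt} (ho : o ∈ octads) :
    Nat.card {x : GolayPt // x ∉ o} = 16 := by
  have h1 : Nat.card {x : GolayPt // x ∉ o} = (oᶜ : Finset GolayPt).card := by
    rw [← Nat.card_eq_finsetCard]
    exact Nat.card_congr (Equiv.subtypeEquivRight (fun x => (Finset.mem_compl).symm))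
  rw [h1, Finset.card_compl, card_octad ho, ← Nat.card_eq_fintype_card, card_golayPt]

/-- The pointwise stabiliser of an octad is transitive on the 16 points outside it. -/
theorem fix_trans {o : Finset GolayPt} (ho : o ∈ octads) {p q : GolayPt} (hp : p ∉ o)
    (hq : q ∉ o) :
    ∃ k ∈ M24 ⊓ fixingSubgroup (Equiv.Perm GolayPt) (o : Set GolayPt), k p = q := by
  let f : ↥(M24 ⊓ fixingSubgroup (Equiv.Perm GolayPt) (o : Set GolayPt)) →
      {x : GolayPt // x ∉ o} := fun k => ⟨k.1 p, fix_not_mem (fix_le_stabIn o k.2) hp⟩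
  have hinj : Function.Injective f := by
    intro k k' hkk
    have h1 : k.1 p = k'.1 p := congrArg Subtype.val hkk
    have h2 : (k'⁻¹ * k).1 p = p := by
      show (k'.1⁻¹ * k.1) p = p
      rw [Equiv.Perm.mul_apply, h1, perm_inv_apply]
    have h3 := fix_free ho (k'⁻¹ * k).2 hp h2
    have h4 : k'⁻¹ * k = 1 := Subtype.ext h3
    exact (inv_mul_eq_one.mp h4).symm
  have hcard : Nat.card {x : GolayPt // x ∉ o} ≤
      Nat.card ↥(M24 ⊓ fixingSubgroup (Equiv.Perm GolayPt) (o : Set GolayPt)) := by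
    rw [(octad_pointwise o ho).1, card_outside ho]
  obtain ⟨k, hk'⟩ := (hinj.bijective_of_nat_card_le hcard).2 ⟨q, hq⟩
  exact ⟨k.1, k.2, congrArg Subtype.val hk'⟩

/-- The pointwise stabiliser meets the stabiliser of an outside point trivially. -/
theorem fix_inf_point {o : Finset GolayPt} (ho : o ∈ octads) {p : GolayPt} (hp : p ∉ o) :
    (M24 ⊓ fixingSubgroup (Equiv.Perm GolayPt) (o : Set GolayPt)) ⊓
      (M24 ⊓ MulAction.stabilizer (Equiv.Perm GolayPt) o ⊓
        MulAction.stabilizer (Equiv.Perm GolayPt) p) = ⊥ := by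
  rw [eq_bot_iff]
  rintro g ⟨hg1, -, hg2⟩
  exact Subgroup.mem_bot.mpr (fix_free ho hg1 hp (MulAction.mem_stabilizer_iff.mp hg2))

/-- Factorisation of an element of the octad stabiliser. -/
theorem exists_fix_mul {o : Finset GolayPt} (ho : o ∈ octads) {p : GolayPt} (hp : p ∉ o)
    {g : Equiv.Perm GolayPt} (hg : g ∈ stabIn o) :
    ∃ k ∈ M24 ⊓ fixingSubgroup (Equiv.Perm GolayPt) (o : Set GolayPt),
      ∃ a ∈ M24 ⊓ MulAction.stabilizer (Equiv.Perm GolayPt) o ⊓
        MulAction.stabilizer (Equiv.Perm GolayPt) p, g = k * a := by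
  obtain ⟨k, hk, hkp⟩ := fix_trans ho hp (fix_not_mem hg hp)
  refine ⟨k, hk, k⁻¹ * g, ⟨?_, ?_⟩, by group⟩
  · exact (stabIn o).mul_mem ((stabIn o).inv_mem (fix_le_stabIn o hk)) hg
  · refine MulAction.mem_stabilizer_iff.mpr ?_
    rw [Equiv.Perm.smul_def, Equiv.Perm.mul_apply, ← hkp, perm_inv_apply]

theorem fix_sup_point {o : Finset GolayPt} (ho : o ∈ octads) {p : GolayPt} (hp : p ∉ o) :
    (M24 ⊓ fixingSubgroup (Equiv.Perm GolayPt) (o : Set GolayPt)) ⊔
      (M24 ⊓ MulAction.stabilizer (Equiv.Perm GolayPt) o ⊓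
        MulAction.stabilizer (Equiv.Perm GolayPt) p) =
      M24 ⊓ MulAction.stabilizer (Equiv.Perm GolayPt) o := by
  apply le_antisymm
  · exact sup_le (fix_le_stabIn o) inf_le_left
  · intro g hg
    obtain ⟨k, hk, a, ha, rfl⟩ := exists_fix_mul ho hp hg
    exact Subgroup.mul_mem _ (Subgroup.mem_sup_left hk) (Subgroup.mem_sup_right ha)

theorem stabPt_le (o : Finset GolayPt) (p : GolayPt) :
    M24 ⊓ MulAction.stabilizer (Equiv.Perm GolayPt) o ⊓
      MulAction.stabilizer (Equiv.Perm GolayPt) p ≤ stabIn o := inf_le_left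

/-- Restriction to the octad of the stabiliser of the octad and an outside point. -/
def octResPt (o : Finset GolayPt) (p : GolayPt) :
    ↥(M24 ⊓ MulAction.stabilizer (Equiv.Perm GolayPt) o ⊓
      MulAction.stabilizer (Equiv.Perm GolayPt) p) →* Equiv.Perm ↥o :=
  (octRes o).comp (Subgroup.inclusion (stabPt_le o p))

theorem octResPt_injective {o : Finset GolayPt} (ho : o ∈ octads) {p : GolayPt} (hp : p ∉ o) :
    Function.Injective (octResPt o p) := by
  rw [injective_iff_map_eq_one]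
  intro a ha
  have h1 : Subgroup.inclusion (stabPt_le o p) a ∈ (octRes o).ker := ha
  rw [ker_octRes, Subgroup.mem_subgroupOf] at h1
  have h2 : (a : Equiv.Perm GolayPt) ∈ (M24 ⊓ fixingSubgroup (Equiv.Perm GolayPt)
      (o : Set GolayPt)) ⊓ (M24 ⊓ MulAction.stabilizer (Equiv.Perm GolayPt) o ⊓
        MulAction.stabilizer (Equiv.Perm GolayPt) p) := ⟨h1, a.2⟩
  rw [fix_inf_point ho hp, Subgroup.mem_bot] at h2
  exact Subtype.ext h2

theorem range_octResPt {o : Finset GolayPt} (ho : o ∈ octads) {p : GolayPt} (hp : p ∉ o) :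
    (octResPt o p).range = alternatingGroup ↥o := by
  rw [← range_octRes ho]
  apply le_antisymm
  · rintro e ⟨a, rfl⟩
    exact ⟨_, rfl⟩
  · rintro e ⟨g, rfl⟩
    obtain ⟨k, hk, a, ha, hga⟩ := exists_fix_mul ho hp g.2
    refine ⟨⟨a, ha⟩, ?_⟩
    have hk' : (⟨k, fix_le_stabIn o hk⟩ : ↥(stabIn o)) ∈ (octRes o).ker := by
      rw [ker_octRes, Subgroup.mem_subgroupOf]
      exact hk
    have h1 : g = ⟨k, fix_le_stabIn o hk⟩ * Subgroup.inclusion (stabPt_le o p) ⟨a, ha⟩ :=
      Subtype.ext hga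
    rw [h1, map_mul, MonoidHom.mem_ker.mp hk', one_mul]
    rfl

/-- The stabiliser of an octad and a point outside it is isomorphic to `A8`. -/
theorem nonempty_mulEquiv_alt {o : Finset GolayPt} (ho : o ∈ octads) {p : GolayPt} (hp : p ∉ o) :
    Nonempty (↥(M24 ⊓ MulAction.stabilizer (Equiv.Perm GolayPt) o ⊓
      MulAction.stabilizer (Equiv.Perm GolayPt) p) ≃* alternatingGroup (Fin 8)) := by
  have e1 := MonoidHom.ofInjective (octResPt_injective ho hp)
  have e2 := MulEquiv.subgroupCongr (range_octResPt ho hp)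
  have e3 : ↥(alternatingGroup ↥o) ≃* ↥(alternatingGroup (Fin 8)) :=
    Equiv.altCongrHom (o.equivFinOfCardEq (card_octad ho))
  exact ⟨(e1.trans e2).trans e3⟩

end Cfsg.Agent.Lib.Helper36
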