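import Mathlib
import Cfsg.Agent.Lib.Helper76.SylPrime

/-! S0983 (helper11), piece INV: involutions of `N(P)` outside `C(P)` invert a Sylow subgroup `P`
of prime order. -/

set_option autoImplicit false

namespace Cfsg.Agent.S983
open Subgroup
variable {G : Type*} [Group G] [Finite G]

theorem inv_aux (p : ℕ) [Fact p.Prime]
    (hc : ∀ Q : Sylow p G, Nat.card (Q : Subgroup G) = p) (P : Sylow p G) (s : G)
    (hsN : s ∈ normalizer ((P : Subgroup G) : Set G)) (hs2 : s ^ 2 = 1)
    (hsC : s ∉ centralizer ((P : Subgroup G) : Set G)) :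
    ∀ x ∈ (P : Subgroup G), s * x * s⁻¹ = x⁻¹ := by
  intro x hx
  have hy : s * x * s⁻¹ ∈ (P : Subgroup G) := (Subgroup.mem_normalizer_iff.mp hsN x).mp hx
  by_contra hne
  have hw1 : s * x * s⁻¹ * x ≠ 1 := fun h => hne (eq_inv_of_mul_eq_one_left h)
  have hwP : s * x * s⁻¹ * x ∈ (P : Subgroup G) := mul_mem hy hx
  have hcomm : (s * x * s⁻¹) * x = x * (s * x * s⁻¹) := by
    by_cases hx1 : x = 1
    · subst hx1; simp
    · have hz := Cfsg.Agent.Lib.Helper76.SylPrime.zpowers_eq hc P x hx hx1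
      have hmem : s * x * s⁻¹ ∈ zpowers x := by rw [hz]; exact hy
      obtain ⟨j, hj⟩ := Subgroup.mem_zpowers_iff.mp hmem
      rw [← hj]
      exact (Commute.zpow_left (Commute.refl x) j).eq
  have hss : s * s = 1 := by rw [← sq]; exact hs2
  have hsw : (s * x * s⁻¹ * x) * s = s * (s * x * s⁻¹ * x) := by
    have e1 : s * (s * x * s⁻¹ * x) * s⁻¹ = (s * s) * x * (s * s)⁻¹ * (s * x * s⁻¹) := by group
    rw [hss] at e1
    simp only [one_mul, inv_one, mul_one] at e1
    rw [← hcomm] at e1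
    calc (s * x * s⁻¹ * x) * s = (s * (s * x * s⁻¹ * x) * s⁻¹) * s := by rw [e1]
      _ = s * (s * x * s⁻¹ * x) := by group
  exact hsC (Cfsg.Agent.Lib.Helper76.SylPrime.mem_centralizer_of_commute hc P _ hwP hw1 s hsw)

theorem exists_inverting_involution (p : ℕ) [Fact p.Prime]
    (hc : ∀ Q : Sylow p G, Nat.card (Q : Subgroup G) = p) (P : Sylow p G) (k : ℕ)
    (hexp : ∀ g : G, g ^ 2 ^ (k + 1) = 1 → g ^ 2 = 1)
    (hN : 2 ^ (k + 1) ∣ Nat.card (normalizer ((P : Subgroup G) : Set G)))
    (hC : ¬ 2 ^ (k + 1) ∣ Nat.card (centralizer ((P : Subgroup G) : Set G))) :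
    ∃ s : G, orderOf s = 2 ∧ ∀ x ∈ (P : Subgroup G), s * x * s⁻¹ = x⁻¹ := by
  have : Fact (Nat.Prime 2) := ⟨Nat.prime_two⟩
  obtain ⟨K, hK⟩ := Sylow.exists_subgroup_card_pow_prime 2 hN
  have hex : ∃ s ∈ K, (s : G) ∉ centralizer ((P : Subgroup G) : Set G) := by
    by_contra hall
    push Not at hall
    apply hC
    have hle : K.map (normalizer ((P : Subgroup G) : Set G)).subtype ≤
        centralizer ((P : Subgroup G) : Set G) := by
      rintro _ ⟨s, hs, rfl⟩
      exact hall s hs
    have hcard : Nat.card (K.map (normalizer ((P : Subgroup G) : Set G)).subtype) =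
        2 ^ (k + 1) := by
      rw [← hK]
      exact Subgroup.card_map_of_injective (Subgroup.subtype_injective _)
    rw [← hcard]
    exact Subgroup.card_dvd_of_le hle
  obtain ⟨s, hsK, hsC⟩ := hex
  have hspow : (s : G) ^ 2 ^ (k + 1) = 1 := by
    have h1 : (⟨s, hsK⟩ : K) ^ Nat.card K = 1 := pow_card_eq_one'
    rw [hK] at h1
    have h2 := congrArg (fun z : K => ((z : normalizer ((P : Subgroup G) : Set G)) : G)) h1
    simpa using h2
  have hs2 : (s : G) ^ 2 = 1 := hexp _ hspow
  have hs1 : (s : G) ≠ 1 := fun h => hsC (h ▸ one_mem _)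
  exact ⟨s, orderOf_eq_prime hs2 hs1, inv_aux p hc P s s.2 hs2 hsC⟩

theorem klein_two_dvd_centralizer (p : ℕ) [Fact p.Prime] (hp2 : p ≠ 2)
    (hc : ∀ Q : Sylow p G, Nat.card (Q : Subgroup G) = p) (P : Sylow p G)
    (hexp : ∀ g : G, g ^ 4 = 1 → g ^ 2 = 1)
    (hN : 4 ∣ Nat.card (normalizer ((P : Subgroup G) : Set G))) :
    2 ∣ Nat.card (centralizer ((P : Subgroup G) : Set G)) := by
  have : Fact (Nat.Prime 2) := ⟨Nat.prime_two⟩
  have hN' : 2 ^ 2 ∣ Nat.card (normalizer ((P : Subgroup G) : Set G)) := by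
    norm_num; exact hN
  obtain ⟨K, hK⟩ := Sylow.exists_subgroup_card_pow_prime 2 hN'
  have hcardK : Nat.card K = 4 := by rw [hK]; norm_num
  have hsq : ∀ s : K, ((s : normalizer ((P : Subgroup G) : Set G)) : G) ^ 2 = 1 := by
    intro s
    apply hexp
    have h1 : s ^ Nat.card K = 1 := pow_card_eq_one'
    rw [hcardK] at h1
    have h2 := congrArg (fun z : K => ((z : normalizer ((P : Subgroup G) : Set G)) : G)) h1
    simpa using h2
  obtain ⟨a, ha1⟩ : ∃ a : K, a ≠ 1 := by
    by_contra h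
    push Not at h
    have h1 : Nat.card K ≤ 1 :=
      Finite.card_le_one_iff_subsingleton.mpr ⟨fun x y => by rw [h x, h y]⟩
    omega
  obtain ⟨b, hb1, hba⟩ : ∃ b : K, b ≠ 1 ∧ b ≠ a := by
    by_contra h
    push Not at h
    have hsub : (Set.univ : Set K) ⊆ {1, a} := fun x _ => by
      by_cases hx : x = 1
      · left; exact hx
      · right; exact h x hx
    have h1 : Nat.card K ≤ 2 := by
      calc Nat.card K = (Set.univ : Set K).ncard := (Set.ncard_univ K).symm
        _ ≤ ({1, a} : Set K).ncard := Set.ncard_le_ncard hsub (Set.toFinite _)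
        _ = 2 := Set.ncard_pair ha1.symm
    omega
  have hval : ∀ c : K, c ≠ 1 → ((c : normalizer ((P : Subgroup G) : Set G)) : G) ≠ 1 := by
    intro c hc1 h
    apply hc1
    apply Subtype.ext
    apply Subtype.ext
    exact h
  by_cases haC : ((a : normalizer ((P : Subgroup G) : Set G)) : G) ∈
      centralizer ((P : Subgroup G) : Set G)
  · exact Cfsg.Agent.Lib.Helper76.SylPrime.dvd_card_of_mem _ 2 _ haC (hval a ha1) (hsq a)
  by_cases hbC : ((b : normalizer ((P : Subgroup G) : Set G)) : G) ∈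
      centralizer ((P : Subgroup G) : Set G)
  · exact Cfsg.Agent.Lib.Helper76.SylPrime.dvd_card_of_mem _ 2 _ hbC (hval b hb1) (hsq b)
  have hia := inv_aux p hc P _ a.1.2 (hsq a) haC
  have hib := inv_aux p hc P _ b.1.2 (hsq b) hbC
  have hab1 : a * b ≠ 1 := by
    intro h
    apply hba
    have haa : a * a = 1 := by
      apply Subtype.ext
      apply Subtype.ext
      have := hsq a
      rw [sq] at this
      exact this
    calc b = (a * a) * b := by rw [haa, one_mul]
      _ = a * (a * b) := by group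
      _ = a := by rw [h, mul_one]
  have habC : ((a * b : K) : normalizer ((P : Subgroup G) : Set G)).1 ∈
      centralizer ((P : Subgroup G) : Set G) := by
    rw [Subgroup.mem_centralizer_iff]
    intro x hx
    have h1 := hib x hx
    have h2 := hia x⁻¹ (inv_mem hx)
    rw [inv_inv] at h2
    show x * (((a : normalizer ((P : Subgroup G) : Set G)) : G) *
      ((b : normalizer ((P : Subgroup G) : Set G)) : G)) =
      (((a : normalizer ((P : Subgroup G) : Set G)) : G) *
      ((b : normalizer ((P : Subgroup G) : Set G)) : G)) * x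
    generalize ((a : normalizer ((P : Subgroup G) : Set G)) : G) = a' at h2 ⊢
    generalize ((b : normalizer ((P : Subgroup G) : Set G)) : G) = b' at h1 ⊢
    calc x * (a' * b') = (a' * x⁻¹ * a'⁻¹) * (a' * b') := by rw [h2]
      _ = a' * x⁻¹ * b' := by group
      _ = a' * (b' * x * b'⁻¹) * b' := by rw [h1]
      _ = a' * b' * x := by group
  exact Cfsg.Agent.Lib.Helper76.SylPrime.dvd_card_of_mem _ 2 _ habC (hval (a * b) hab1)
    (hsq (a * b))

end Cfsg.Agent.S983
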