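import Cfsg.Agent.Lib.Helper24.ChevGL
import Cfsg.Agent.Lib.Helper24.ChevBorel
import Cfsg.Prelude.Def_ChevE8

/-!
# Iterated cores in `E₈(2)`: definitions (foundation of S5751)

`G = E₈(2)` (the Chevalley group of the datum `chevE8` over `ZMod 2`), `M1` the maximal parabolic
subgroup obtained by removing node `3` (0-based; the node of mark 6), `M2 = n M1 n⁻¹` for
`n = n_{p_3}`, and the two sequences `Aq`, `Bq` of iterated cores.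

Bridges to the Helper24/Helper25 library: `nG_val`/`nn_val` (the matrix of `nn k` is
`chevE8.nMat K2 (chevE8.simple k) 1`), and by `rfl`: `wc c = coW [c] chevE8 0`,
`lv c = lvl chevE8 (wc c)`, `wP L s = wPi chevE8 L s`.
-/

set_option autoImplicit false

namespace Cfsg.Agent.Lib.Helper36.E8C

open Cfsg.Lie Cfsg.Agent.Lib.Helper24

/-- the field with two elements -/
abbrev K2 : Type := ZMod 2

theorem hE8 : chevE8 ∈ [chevG2, chevB2, chevD4, chevF4, chevE6, chevE7, chevE8] := by simp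

theorem hE8' : chevE8 ∈ chevList := hE8

/-- the group `E₈(2)` -/
abbrev E8G : Type := ↥(chevE8.group K2)

/-- all nodes except node `3` (the node of mark 6) -/
def Jn : Set ℕ := {k | k ≠ 3}

/-- the maximal parabolic subgroup, inside `GL` -/
def Pm : Subgroup (GL chevE8.Idx K2) := chevE8.parabolicSubgroup K2 Jn

/-- the maximal parabolic subgroup, inside the group -/
def M1 : Subgroup E8G := Pm.subgroupOf (chevE8.group K2)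

/-- `n_r = x_r(1) x_{-r}(-1) x_r(1)` in `GL` -/
def nG (r : ℕ) : GL chevE8.Idx K2 :=
  xGL chevE8 hE8' r 1 * (xGL chevE8 hE8' (chevE8.neg r) (-1) * xGL chevE8 hE8' r 1)

theorem nG_mem (r : ℕ) : nG r ∈ chevE8.group K2 :=
  Subgroup.mul_mem _ (xGL_mem_group chevE8 hE8' r 1)
    (Subgroup.mul_mem _ (xGL_mem_group chevE8 hE8' (chevE8.neg r) (-1))
      (xGL_mem_group chevE8 hE8' r 1))

theorem nG_val (r : ℕ) :
    ((nG r : GL chevE8.Idx K2) : Matrix chevE8.Idx chevE8.Idx K2) = chevE8.nMat K2 r 1 := by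
  unfold nG
  rw [Units.val_mul, Units.val_mul, xGL_val, xGL_val]
  unfold ChevalleyDatum.nMat ChevalleyDatum.wordMat ChevalleyDatum.nWord
  simp only [List.map_cons, List.map_nil, List.prod_cons, List.prod_nil, mul_one, inv_one]

/-- the element `n_{p_k}` of the group -/
def nn (k : ℕ) : E8G := ⟨nG (chevE8.simple k), nG_mem _⟩

theorem nn_val (k : ℕ) :
    (((nn k : E8G) : GL chevE8.Idx K2) : Matrix chevE8.Idx chevE8.Idx K2) =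
      chevE8.nMat K2 (chevE8.simple k) 1 := nG_val _

/-- the root element `x_r(1)` of the group -/
def xe (r : ℕ) : E8G := ⟨xGL chevE8 hE8' r 1, xGL_mem_group chevE8 hE8' r 1⟩

theorem xe_val (r : ℕ) :
    (((xe r : E8G) : GL chevE8.Idx K2) : Matrix chevE8.Idx chevE8.Idx K2) = chevE8.x K2 r 1 :=
  xGL_val chevE8 hE8' r 1

/-- the product of the `n_{p_k}` along a word -/
def nw : List ℕ → E8G
  | [] => 1
  | k :: L => nn k * nw L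

/-- the root permutation of a word (this is `Helper25.wPi chevE8 L s`) -/
def wP (L : List ℕ) (s : ℕ) : ℕ := L.foldr (fun i acc => chevE8.reflectRoot i acc) s

/-- the conjugate parabolic subgroup -/
def M2 : Subgroup E8G := M1.map (MulAut.conj (nn 3)).toMonoidHom

/-- the two sequences of iterated cores -/
def AB : ℕ → Subgroup E8G × Subgroup E8G
  | 0 => (M1, M2)
  | (i + 1) => ((((AB i).1 ⊓ (AB i).2).subgroupOf M1).normalCore.map M1.subtype,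
      (((AB i).1 ⊓ (AB i).2).subgroupOf M2).normalCore.map M2.subtype)

/-- the sequence `A` -/
def Aq (i : ℕ) : Subgroup E8G := (AB i).1

/-- the sequence `B` -/
def Bq (i : ℕ) : Subgroup E8G := (AB i).2

/-- the additive weight of the roots with coefficient vector `c` on the Cartan functionals:
`wc c s = ∑ i, c_i * A_{p_i, s}` (this is `Helper25.coW [c] chevE8 0 s`) -/
def wc (c : List ℤ) (s : ℕ) : ℤ :=
  ((List.range chevE8.rank).map fun i => (([c] : List (List ℤ)).getD 0 []).getD i 0 *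
    chevE8.cartan i s).sum

/-- the level of a coordinate for the weight `wc c` (this is `Helper25.lvl chevE8 (wc c)`) -/
def lv (c : List ℤ) : chevE8.Idx → ℤ
  | Sum.inl _ => 0
  | Sum.inr s => wc c s.val

/-- row `3` of the inverse of the Cartan matrix -/
def c0 : List ℤ := [10, 15, 20, 30, 24, 18, 12, 6]

/-- the level of a root: its coefficient on the fundamental root `p_3` -/
def lev (s : ℕ) : ℤ := wc c0 s

/-- block upper triangular matrices for the weight `wc c` -/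
def LvU (c : List ℤ) (M : Matrix chevE8.Idx chevE8.Idx K2) : Prop :=
  ∀ a b, M a b ≠ 0 → lv c b ≤ lv c a

/-- the positions (row, column) that the apartment argument does not control -/
def LO : chevE8.Idx → chevE8.Idx → Prop
  | Sum.inl _, Sum.inl _ => True
  | Sum.inr r, Sum.inr s => 4 ≤ lev r.val ∧ lev s.val ≤ -4
  | _, _ => False

/-- the level subgroups: generated by the root elements of level at least `m` -/
def Qm (m : ℤ) : Subgroup (GL chevE8.Idx K2) :=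
  rootGen K2 chevE8 (fun r => r < 240 ∧ m ≤ lev r)

/-- the separating data: pairs (word `L`, coefficient vector `c`); the weight `wc c` is the level
function transported by the Weyl group element of the word `L` -/
def verts : List (List ℕ × List ℤ) := [
  ([2, 4, 5, 6, 5, 4, 0, 2, 3, 4, 5, 1, 3, 2, 4, 3], [7, 13, 16, 26, 20, 15, 10, 6]),
  ([4, 7, 6, 5, 4, 1, 3, 2, 4, 5, 6, 7, 1, 3, 2, 4, 5, 6, 7, 1, 0, 2, 3, 2, 4, 5, 6, 1, 3, 2, 4, 5, 1, 0, 2, 3, 2, 4, 1, 3], [5, 3, 8, 9, 7, 6, 3, -1]),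
  ([2, 5, 4, 6, 5, 7, 0, 2, 3, 2, 4, 5, 6, 7, 1, 3, 2, 4, 5, 6, 1, 0, 2, 3, 2, 4, 5, 6, 1, 3, 2, 4, 5, 1, 0, 2, 3, 2, 4, 1, 3], [1, 7, 5, 10, 8, 4, 4, 3]),
  ([2, 4, 3, 2, 4, 5, 6, 5, 4, 7, 6, 1, 0, 2, 3, 2, 4, 5, 6, 7, 1, 3, 4, 5, 6, 1, 0, 2, 3, 2, 4, 5, 1, 3, 4, 1, 0, 2, 3], [4, 6, 5, 10, 7, 8, 4, 3]),
  ([5, 6, 5, 4, 7, 1, 3, 2, 4, 5, 6, 7, 0, 2, 3, 2, 4, 5, 6, 1, 3, 2, 4, 5, 6, 1, 3, 2, 4, 5, 1, 0, 2, 3, 2, 4, 1, 3], [4, 3, 9, 12, 10, 6, 4, 3]),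
  ([3, 2, 4, 5, 4, 6, 5, 4, 7, 6, 5, 4, 1, 3, 2, 4, 5, 6, 7, 1, 0, 2, 3, 2, 4, 5, 6, 1, 3, 2, 4, 5, 1, 0, 2, 3, 2, 4, 1, 3], [5, 6, 8, 9, 10, 6, 3, 1]),
  ([2, 4, 7, 6, 1, 0, 2, 3, 2, 4, 5, 6, 7, 1, 3, 2, 4, 5, 6, 1, 3, 2, 4, 5, 1, 0, 2, 3, 2, 4, 5, 1, 3, 4, 1, 0, 2, 3], [1, 5, 5, 12, 10, 9, 6, 2]),
  ([4, 3, 2, 4, 5, 4, 6, 5, 4, 7, 1, 0, 2, 3, 2, 4, 5, 6, 7, 1, 3, 2, 4, 5, 6, 1, 0, 2, 3, 2, 4, 5, 1, 3, 4, 1, 0, 2, 3], [3, 6, 8, 9, 6, 7, 5, 4]),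
  ([2, 5, 4, 3, 2, 4, 5, 6, 5, 4, 7, 6, 1, 3, 2, 4, 5, 6, 7, 1, 0, 2, 3, 2, 4, 5, 6, 1, 3, 2, 4, 5, 1, 3, 4, 1, 0, 2, 3], [5, 6, 6, 10, 7, 3, 4, 3]),
  ([4, 5, 6, 5, 4, 7, 6, 5, 1, 3, 2, 4, 5, 6, 1, 0, 2, 3, 2, 4, 5, 6, 7, 1, 3, 2, 4, 5, 6, 1, 0, 2, 3, 2, 4, 5, 1, 3, 4, 1, 0, 2, 3], [3, 4, 8, 10, 5, 3, 0, 1]),
  ([5, 4, 7, 6, 1, 3, 2, 4, 5, 6, 7, 1, 3, 4, 5, 6, 7, 1, 0, 2, 3, 2, 4, 5, 6, 1, 3, 2, 4, 5, 1, 0, 2, 3, 2, 4, 1, 3], [5, 3, 8, 10, 8, 5, 6, 2]),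
  ([2, 3, 2, 4, 6, 5, 7, 6, 1, 0, 2, 3, 2, 4, 5, 6, 7, 1, 3, 2, 4, 5, 6, 1, 0, 2, 3, 2, 4, 5, 1, 3, 4, 1, 0, 2, 3], [3, 6, 5, 10, 11, 10, 5, 3]),
  ([5, 4, 6, 5, 7, 6, 5, 4, 3, 2, 4, 5, 6, 7, 1, 0, 2, 3, 2, 4, 5, 6, 7, 1, 3, 2, 4, 5, 6, 1, 0, 2, 3, 2, 4, 5, 1, 3, 4, 1, 0, 2, 3], [3, 6, 8, 9, 6, 2, 1, -1]),
  ([2, 4, 5, 7, 6, 5, 4, 0, 2, 3, 2, 4, 5, 6, 7, 1, 3, 2, 4, 5, 6, 7, 1, 0, 2, 3, 2, 4, 5, 6, 1, 3, 2, 4, 5, 1, 0, 2, 3, 2, 4, 1, 3], [1, 6, 4, 9, 6, 5, 3, -1]),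
  ([6, 1, 3, 2, 4, 5, 6, 0, 2, 3, 2, 4, 5, 6, 1, 3, 2, 4, 5, 6, 1, 3, 2, 4, 5, 1, 0, 2, 3, 2, 4, 1, 3], [4, 5, 9, 14, 13, 11, 8, 6]),
  ([4, 5, 4, 6, 5, 7, 6, 5, 4, 0, 2, 3, 2, 4, 5, 6, 1, 3, 2, 4, 5, 6, 1, 0, 2, 3, 2, 4, 5, 6, 1, 3, 2, 4, 5, 1, 0, 2, 3, 2, 4, 1, 3], [3, 7, 8, 12, 6, 3, 2, 0]),
  ([2, 6, 5, 7, 6, 5, 4, 1, 0, 2, 3, 2, 4, 5, 6, 7, 1, 3, 2, 4, 5, 6, 7, 1, 0, 2, 3, 2, 4, 5, 6, 1, 3, 2, 4, 5, 1, 0, 2, 3, 2, 4, 1, 3], [1, 3, 4, 9, 8, 5, 1, -1])]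

end Cfsg.Agent.Lib.Helper36.E8C
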