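import Cfsg.Agent.Lib.Helper36.E8Facts
import Cfsg.Agent.Lib.Helper25.ChevW0

/-!
# Iterated cores in `E₈(2)` (S5751), piece UB2: the tables of the separating data

The 17 pairs (word, weight) of `verts`: each weight `wc c` is non-negative on the image under the
word of the roots of non-negative level (`verts_ok`), and any two coordinates not in the corner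
`LO` are separated by one of the weights (`verts_sep`).  Both are checked by the kernel on the
tables `levTab` (levels, shifted by 6) and `profTab` (the 17 weights of each root, shifted by 6).
-/

set_option autoImplicit false
set_option maxRecDepth 100000

namespace Cfsg.Agent.Lib.Helper36.E8C

open Cfsg.Lie Cfsg.Agent.Lib.Helper24 Cfsg.Agent.Lib.Helper25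

/-- the level of a root, shifted by 6 -/
def levN (s : ℕ) : ℕ := (lev s + 6).toNat

/-- the weights of a root for the 17 vertices, shifted by 6 -/
def profN (s : ℕ) : List ℕ := verts.map fun e => (wc e.2 s + 6).toNat

/-- the table of `levN` -/
def levTab : List ℕ := [0, 0, 0, 0, 0, 1, 1, 1, 1, 2, 2, 2, 2, 2, 1, 1, 2, 2, 2, 2, 2, 2, 2, 2, 2, 2, 3, 3, 3, 3, 3, 3, 3, 3, 3, 3, 3, 3, 3, 3, 3, 3, 3, 3, 3, 3, 4, 4, 4, 4, 4, 4, 4, 4, 4, 4, 4, 4, 4, 4, 4, 4, 4, 4, 4, 4, 5, 5, 5, 5, 5, 5, 5, 5, 5, 5, 6, 6, 4, 4, 4, 4, 4, 4, 4, 4, 4, 4, 5, 5, 5, 5, 5, 5, 5, 5, 5, 5, 6, 5, 5, 5, 5, 5, 6, 5, 5, 5, 5, 5, 6, 6, 6, 6, 6, 6, 6, 6, 6, 6, 6, 6, 6, 6, 6, 6, 6, 6, 6, 6, 7, 7, 7, 7, 7, 6, 7, 7, 7, 7, 7, 6, 7,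 7, 7, 7, 7, 7, 7, 7, 7, 7, 8, 8, 8, 8, 8, 8, 8, 8, 8, 8, 6, 6, 7, 7, 7, 7, 7, 7, 7, 7, 7, 7, 8, 8, 8, 8, 8, 8, 8, 8, 8, 8, 8, 8, 8, 8, 8, 8, 8, 8, 8, 8, 9, 9, 9, 9, 9, 9, 9, 9, 9, 9, 9, 9, 9, 9, 9, 9, 9, 9, 9, 9, 10, 10, 10, 10, 10, 10, 10, 10, 10, 10, 11, 11, 10, 10, 10, 10, 10, 11, 11, 11, 11, 12, 12, 12, 12, 12]

/-- the table of `profN` -/
def profTab : List (List ℕ) := [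
  [0,7,3,3,3,5,4,2,3,5,4,3,7,7,0,6,7], [2,2,5,5,5,4,2,5,5,7,2,4,4,2,4,4,4], [1,3,6,2,4,3,3,4,7,3,7,1,5,4,3,5,2], [1,5,2,7,2,2,5,7,2,4,3,5,2,5,4,3,3], [0,4,4,3,4,7,4,3,3,1,4,7,3,3,5,0,5], [3,4,4,5,6,1,8,1,4,4,5,5,1,5,6,3,8],
  [2,6,3,1,8,3,5,5,1,7,6,2,5,3,6,4,6], [3,1,8,7,0,4,6,4,6,2,1,7,4,8,2,5,5], [2,3,7,3,2,6,3,8,3,5,2,4,8,6,2,6,3], [5,3,7,5,4,0,7,6,4,8,3,2,6,8,3,9,6], [4,2,9,1,6,5,6,2,5,5,4,4,7,6,4,6,8], [4,4,5,6,4,4,8,5,0,6,0,8,4,7,5,4,9],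
  [3,5,6,3,3,3,9,4,2,2,5,5,5,9,4,5,7], [5,0,8,5,5,2,7,7,4,4,3,6,2,4,8,3,4], [0,8,0,4,7,5,2,3,5,5,8,3,3,1,5,2,4], [0,5,4,6,1,8,0,6,7,3,4,5,6,4,1,4,1], [3,5,4,8,3,2,4,4,8,6,5,3,4,6,2,7,4], [2,4,6,4,5,7,3,0,9,3,6,5,5,4,3,4,6],
  [2,6,2,9,3,6,5,3,4,4,2,9,2,5,4,2,7], [1,7,3,6,2,5,6,2,6,0,7,6,3,7,3,3,5], [3,2,5,8,4,4,4,5,8,2,5,7,0,2,7,1,2], [2,7,3,4,5,4,1,8,5,9,6,0,8,4,2,8,2], [1,6,5,0,7,9,0,4,6,6,7,2,9,2,3,5,4], [1,8,1,5,5,8,2,7,1,7,3,6,6,3,4,3,5],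
  [0,9,2,2,4,7,3,6,3,3,8,3,7,5,3,4,3], [2,4,4,4,6,6,1,9,5,5,6,4,4,0,7,2,0], [4,6,5,2,9,3,4,2,7,9,8,0,7,4,4,8,7], [4,8,1,7,7,2,6,5,2,10,4,4,4,5,5,6,8], [3,9,2,4,6,1,7,4,4,6,9,1,5,7,4,7,6], [5,4,4,6,8,0,5,7,6,8,7,2,2,2,8,5,3],
  [3,7,3,3,9,7,5,1,3,7,5,6,5,3,6,3,10], [2,8,4,0,8,6,6,0,5,3,10,3,6,5,5,4,8], [4,3,6,2,10,5,4,3,7,5,8,4,3,0,9,2,5], [2,10,0,5,6,5,8,3,0,4,6,7,3,6,6,2,9], [4,5,2,7,8,4,6,6,2,6,4,8,0,1,10,0,6], [3,6,3,4,7,3,7,5,4,2,9,5,1,3,9,1,4],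
  [4,3,9,4,3,6,2,5,9,7,4,2,10,7,0,10,4], [4,5,5,9,1,5,4,8,4,8,0,6,7,8,1,8,5], [3,6,6,6,0,4,5,7,6,4,5,3,8,10,0,9,3], [5,1,8,8,2,3,3,10,8,6,3,4,5,5,4,7,0], [3,4,7,5,3,10,3,4,5,5,1,8,8,6,2,5,7], [2,5,8,2,2,9,4,3,7,1,6,5,9,8,1,6,5],
  [4,0,10,4,4,8,2,6,9,3,4,6,6,3,5,4,2], [2,7,4,7,0,8,6,6,2,2,2,9,6,9,2,4,6], [4,2,6,9,2,7,4,9,4,4,0,10,3,4,6,2,3], [3,3,7,6,1,6,5,8,6,0,5,7,4,6,5,3,1], [6,4,7,7,5,4,7,2,6,8,2,6,6,8,3,8,10], [5,5,8,4,4,3,8,1,8,4,7,3,7,10,2,9,8],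
  [7,0,10,6,6,2,6,4,10,6,5,4,4,5,6,7,5], [5,7,4,9,2,2,10,4,3,5,3,7,4,11,3,7,9], [7,2,6,11,4,1,8,7,5,7,1,8,1,6,7,5,6], [6,3,7,8,3,0,9,6,7,3,6,5,2,8,6,6,4], [4,6,6,5,4,7,9,0,4,2,4,9,5,9,4,4,11], [6,1,8,7,6,6,7,3,6,4,2,10,2,4,8,2,8],
  [5,2,9,4,5,5,8,2,8,0,7,7,3,6,7,3,6], [5,4,5,9,3,4,10,5,3,1,3,11,0,7,8,1,7], [5,6,6,3,7,6,4,6,3,11,3,3,10,6,3,9,8], [4,7,7,0,6,5,5,5,5,7,8,0,11,8,2,10,6], [6,2,9,2,8,4,3,8,7,9,6,1,8,3,6,8,3], [4,9,3,5,4,4,7,8,0,8,4,4,8,9,3,8,7],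
  [6,4,5,7,6,3,5,11,2,10,2,5,5,4,7,6,4], [5,5,6,4,5,2,6,10,4,6,7,2,6,6,6,7,2], [3,8,5,1,6,9,6,4,1,5,5,6,9,7,4,5,9], [5,3,7,3,8,8,4,7,3,7,3,7,6,2,8,3,6], [4,4,8,0,7,7,5,6,5,3,8,4,7,4,7,4,4], [4,6,4,5,5,6,7,9,0,4,4,8,4,5,8,2,5],
  [6,8,5,3,8,3,10,2,2,8,6,4,7,9,5,8,12], [8,3,7,5,10,2,8,5,4,10,4,5,4,4,9,6,9], [7,4,8,2,9,1,9,4,6,6,9,2,5,6,8,7,7], [7,6,4,7,7,0,11,7,1,7,5,6,2,7,9,5,8], [6,5,6,3,9,5,10,3,2,4,6,8,3,5,10,2,10], [6,5,9,5,2,6,8,5,4,6,2,6,10,12,1,10,9],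
  [8,0,11,7,4,5,6,8,6,8,0,7,7,7,5,8,6], [7,1,12,4,3,4,7,7,8,4,5,4,8,9,4,9,4], [7,3,8,9,1,3,9,10,3,5,1,8,5,10,5,7,5], [6,2,10,5,3,8,8,6,4,2,2,10,6,8,6,4,7], [9,2,10,7,5,2,12,4,5,5,3,8,4,10,7,7,10], [8,4,9,3,7,4,9,8,2,8,4,5,8,8,7,8,8],
  [3,8,3,6,6,8,1,4,7,9,5,4,8,4,2,7,6], [2,9,4,3,5,7,2,3,9,5,10,1,9,6,1,8,4], [4,4,6,5,7,6,0,6,11,7,8,2,6,1,5,6,1], [2,11,0,8,3,6,4,6,4,6,6,5,6,7,2,6,5], [4,6,2,10,5,5,2,9,6,8,4,6,3,2,6,4,2], [3,7,3,7,4,4,3,8,8,4,9,3,4,4,5,5,0],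
  [1,10,2,4,5,11,3,2,5,3,7,7,7,5,3,3,7], [3,5,4,6,7,10,1,5,7,5,5,8,4,0,7,1,4], [2,6,5,3,6,9,2,4,9,1,10,5,5,2,6,2,2], [2,8,1,8,4,8,4,7,4,2,6,9,2,3,7,0,3], [4,10,2,6,7,5,7,0,6,6,8,5,5,7,4,6,10], [6,5,4,8,9,4,5,3,8,8,6,6,2,2,8,4,7],
  [5,6,5,5,8,3,6,2,10,4,11,3,3,4,7,5,5], [5,8,1,10,6,2,8,5,5,5,7,7,0,5,8,3,6], [4,7,3,6,8,7,7,1,6,2,8,9,1,3,9,0,8], [3,12,1,2,9,7,4,4,3,9,9,2,9,5,4,7,8], [5,7,3,4,11,6,2,7,5,11,7,3,6,0,8,5,5], [4,8,4,1,10,5,3,6,7,7,12,0,7,2,7,6,3],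
  [4,10,0,6,8,4,5,9,2,8,8,4,4,3,8,4,4], [3,9,2,2,10,9,4,5,3,5,9,6,5,1,9,1,6], [6,9,2,4,12,3,8,3,4,8,10,4,3,3,10,4,9], [4,7,6,8,1,8,5,3,8,4,4,7,8,10,0,8,7], [6,2,8,10,3,7,3,6,10,6,2,8,5,5,4,6,4], [5,3,9,7,2,6,4,5,12,2,7,5,6,7,3,7,2],
  [5,5,5,12,0,5,6,8,7,3,3,9,3,8,4,5,3], [4,4,7,8,2,10,5,4,8,0,4,11,4,6,5,2,5], [7,4,7,10,4,4,9,2,9,3,5,9,2,8,6,5,8], [3,9,5,4,3,10,2,7,5,7,5,4,12,8,0,9,5], [5,4,7,6,5,9,0,10,7,9,3,5,9,3,4,7,2], [4,5,8,3,4,8,1,9,9,5,8,2,10,5,3,8,0],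
  [4,7,4,8,2,7,3,12,4,6,4,6,7,6,4,6,1], [3,6,6,4,4,12,2,8,5,3,5,8,8,4,5,3,3], [6,9,5,6,5,4,6,5,6,10,6,2,10,10,1,12,8], [8,4,7,8,7,3,4,8,8,12,4,3,7,5,5,10,5], [7,5,8,5,6,2,5,7,10,8,9,0,8,7,4,11,3], [7,7,4,10,4,1,7,10,5,9,5,4,5,8,5,9,4],
  [5,8,7,2,7,9,5,1,7,7,7,4,11,8,2,9,10], [7,3,9,4,9,8,3,4,9,9,5,5,8,3,6,7,7], [6,4,10,1,8,7,4,3,11,5,10,2,9,5,5,8,5], [5,10,3,7,5,8,7,4,2,8,3,8,8,9,3,7,11], [7,5,5,9,7,7,5,7,4,10,1,9,5,4,7,5,8], [4,11,4,4,4,7,8,3,4,4,8,5,9,11,2,8,9],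
  [8,1,8,8,8,5,4,9,8,8,4,7,3,1,10,4,3], [5,7,7,3,5,5,7,5,8,2,11,3,7,8,5,7,4], [7,2,9,5,7,4,5,8,10,4,9,4,4,3,9,5,1], [6,8,2,11,4,5,8,9,1,7,2,10,3,7,7,4,7], [5,9,3,8,3,4,9,8,3,3,7,7,4,9,6,5,5], [7,4,5,10,5,3,7,11,5,5,5,8,1,4,10,3,2],
  [5,5,8,2,8,11,5,2,7,3,7,8,7,4,7,3,8], [5,7,4,7,6,10,7,5,2,4,3,12,4,5,8,1,9], [4,8,5,4,5,9,8,4,4,0,8,9,5,7,7,2,7], [6,3,7,6,7,8,6,7,6,2,6,10,2,2,11,0,4], [9,6,6,8,8,0,10,4,7,9,7,4,4,8,7,9,9], [8,5,8,4,10,5,9,0,8,6,8,6,5,6,8,6,11],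
  [8,7,4,9,8,4,11,3,3,7,4,10,2,7,9,4,12], [7,8,5,6,7,3,12,2,5,3,9,7,3,9,8,5,10], [9,3,7,8,9,2,10,5,7,5,7,8,0,4,12,3,7], [5,8,5,2,8,8,3,10,3,9,7,3,10,4,6,7,4], [8,8,5,4,10,2,7,8,4,12,8,1,8,6,7,10,7], [7,7,7,0,12,7,6,4,5,9,9,3,9,4,8,7,9],
  [7,9,3,5,10,6,8,7,0,10,5,7,6,5,9,5,10], [6,10,4,2,9,5,9,6,2,6,10,4,7,7,8,6,8], [8,5,6,4,11,4,7,9,4,8,8,5,4,2,12,4,5], [6,3,10,8,0,9,4,9,8,4,2,8,9,9,2,8,3], [9,3,10,10,2,3,8,7,9,7,3,6,7,11,3,11,6], [8,2,12,6,4,8,7,3,10,4,4,8,8,9,4,8,8],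
  [8,4,8,11,2,7,9,6,5,5,0,12,5,10,5,6,9], [7,5,9,8,1,6,10,5,7,1,5,9,6,12,4,7,7], [9,0,11,10,3,5,8,8,9,3,3,10,3,7,8,5,4], [8,5,9,6,4,5,5,11,6,10,4,3,11,9,3,12,4], [7,4,11,2,6,10,4,7,7,7,5,5,12,7,4,9,6], [7,6,7,7,4,9,6,10,2,8,1,9,9,8,5,7,7],
  [6,7,8,4,3,8,7,9,4,4,6,6,10,10,4,8,5], [8,2,10,6,5,7,5,12,6,6,4,7,7,5,8,6,2], [10,4,11,4,8,4,8,5,8,10,6,3,10,9,5,12,9], [10,6,7,9,6,3,10,8,3,11,2,7,7,10,6,10,10], [9,7,8,6,5,2,11,7,5,7,7,4,8,12,5,11,8], [11,2,10,8,7,1,9,10,7,9,5,5,5,7,9,9,5],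
  [9,5,9,5,8,8,9,4,4,8,3,9,8,8,7,7,12], [8,6,10,2,7,7,10,3,6,4,8,6,9,10,6,8,10], [10,1,12,4,9,6,8,6,8,6,6,7,6,5,10,6,7], [8,8,6,7,5,6,12,6,1,5,4,10,6,11,7,6,11], [10,3,8,9,7,5,10,9,3,7,2,11,3,6,11,4,8], [9,4,9,6,6,4,11,8,5,3,7,8,4,8,10,5,6],
  [4,8,3,9,5,8,3,4,10,4,8,7,4,4,5,4,4], [3,10,2,5,7,10,0,8,7,7,9,4,8,2,5,5,2], [6,10,2,7,9,4,4,6,8,10,10,2,6,4,6,8,5], [5,9,4,3,11,9,3,2,9,7,11,4,7,2,7,5,7], [5,11,0,8,9,8,5,5,4,8,7,8,4,3,8,3,8], [4,12,1,5,8,7,6,4,6,4,12,5,5,5,7,4,6],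
  [6,7,3,7,10,6,4,7,8,6,10,6,2,0,11,2,3], [6,7,6,9,3,7,2,9,10,8,6,4,9,7,2,10,2], [5,6,8,5,5,12,1,5,11,5,7,6,10,5,3,7,4], [5,8,4,10,3,11,3,8,6,6,3,10,7,6,4,5,5], [4,9,5,7,2,10,4,7,8,2,8,7,8,8,3,6,3], [6,4,7,9,4,9,2,10,10,4,6,8,5,3,7,4,0],
  [8,6,8,7,7,6,5,3,12,8,8,4,8,7,4,10,7], [8,8,4,12,5,5,7,6,7,9,4,8,5,8,5,8,8], [7,9,5,9,4,4,8,5,9,5,9,5,6,10,4,9,6], [9,4,7,11,6,3,6,8,11,7,7,6,3,5,8,7,3], [7,7,6,8,7,10,6,2,8,6,5,10,6,6,6,5,10], [6,8,7,5,6,9,7,1,10,2,10,7,7,8,5,6,8],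
  [8,3,9,7,8,8,5,4,12,4,8,8,4,3,9,4,5], [6,10,3,10,4,8,9,4,5,3,6,11,4,9,6,4,9], [8,5,5,12,6,7,7,7,7,5,4,12,1,4,10,2,6], [7,6,6,9,5,6,8,6,9,1,9,9,2,6,9,3,4], [7,8,7,3,9,8,2,7,9,11,9,1,12,5,4,11,5], [7,10,3,8,7,7,4,10,4,12,5,5,9,6,5,9,6],
  [6,11,4,5,6,6,5,9,6,8,10,2,10,8,4,10,4], [8,6,6,7,8,5,3,12,8,10,8,3,7,3,8,8,1], [6,9,5,4,9,12,3,6,5,9,6,7,10,4,6,6,8], [5,10,6,1,8,11,4,5,7,5,11,4,11,6,5,7,6], [7,5,8,3,10,10,2,8,9,7,9,5,8,1,9,5,3], [5,12,2,6,6,10,6,8,2,6,7,8,8,7,6,5,7],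
  [7,7,4,8,8,9,4,11,4,8,5,9,5,2,10,3,4], [6,8,5,5,7,8,5,10,6,4,10,6,6,4,9,4,2], [9,9,5,6,11,6,7,4,6,12,7,5,8,6,7,9,11], [8,10,6,3,10,5,8,3,8,8,12,2,9,8,6,10,9], [10,5,8,5,12,4,6,6,10,10,10,3,6,3,10,8,6], [8,12,2,8,8,4,10,6,3,9,8,6,6,9,7,8,10],
  [10,7,4,10,10,3,8,9,5,11,6,7,3,4,11,6,7], [9,8,5,7,9,2,9,8,7,7,11,4,4,6,10,7,5], [7,11,4,4,10,9,9,2,4,6,9,8,7,7,8,5,12], [9,6,6,6,12,8,7,5,6,8,7,9,4,2,12,3,9], [8,7,7,3,11,7,8,4,8,4,12,6,5,4,11,4,7], [8,9,3,8,9,6,10,7,3,5,8,10,2,5,12,2,8],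
  [9,6,9,8,5,9,5,7,8,10,3,7,11,9,3,11,8], [8,7,10,5,4,8,6,6,10,6,8,4,12,11,2,12,6], [10,2,12,7,6,7,4,9,12,8,6,5,9,6,6,10,3], [8,9,6,10,2,7,8,9,5,7,4,8,9,12,3,10,7], [10,4,8,12,4,6,6,12,7,9,2,9,6,7,7,8,4], [9,5,9,9,3,5,7,11,9,5,7,6,7,9,6,9,2],
  [7,8,8,6,4,12,7,5,6,4,5,10,10,10,4,7,9], [9,3,10,8,6,11,5,8,8,6,3,11,7,5,8,5,6], [8,4,11,5,5,10,6,7,10,2,8,8,8,7,7,6,4], [8,6,7,10,3,9,8,10,5,3,4,12,5,8,8,4,5], [10,8,8,8,6,6,11,3,7,7,6,8,8,12,5,10,12], [12,3,10,10,8,5,9,6,9,9,4,9,5,7,9,8,9],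
  [11,4,11,7,7,4,10,5,11,5,9,6,6,9,8,9,7], [11,6,7,12,5,3,12,8,6,6,5,10,3,10,9,7,8], [10,5,9,8,7,8,11,4,7,3,6,12,4,8,10,4,10], [9,10,7,4,8,8,8,7,4,10,7,5,12,10,5,11,10], [11,5,9,6,10,7,6,10,6,12,5,6,9,5,9,9,7], [10,6,10,3,9,6,7,9,8,8,10,3,10,7,8,10,5],
  [10,8,6,8,7,5,9,12,3,9,6,7,7,8,9,8,6], [9,7,8,4,9,10,8,8,4,6,7,9,8,6,10,5,8], [12,7,8,6,11,4,12,6,5,9,8,7,6,8,11,8,11], [12,4,12,8,5,7,10,9,7,7,4,9,9,11,7,10,8], [7,12,4,7,7,10,5,5,8,8,9,6,10,8,4,9,8], [9,7,6,9,9,9,3,8,10,10,7,7,7,3,8,7,5],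
  [8,8,7,6,8,8,4,7,12,6,12,4,8,5,7,8,3], [8,10,3,11,6,7,6,10,7,7,8,8,5,6,8,6,4], [7,9,5,7,8,12,5,6,8,4,9,10,6,4,9,3,6], [10,9,5,9,10,6,9,4,9,7,10,8,4,6,10,6,9], [9,11,4,5,12,8,6,8,6,10,11,5,8,4,10,7,7], [10,6,9,11,4,9,7,7,11,5,6,10,7,9,6,8,6],
  [9,8,8,7,6,11,4,11,8,8,7,7,11,7,6,9,4], [12,8,8,9,8,5,8,9,9,11,8,5,9,9,7,12,7], [11,7,10,5,10,10,7,5,10,8,9,7,10,7,8,9,9], [11,9,6,10,8,9,9,8,5,9,5,11,7,8,9,7,10], [10,10,7,7,7,8,10,7,7,5,10,8,8,10,8,8,8], [12,5,9,9,9,7,8,10,9,7,8,9,5,5,12,6,5]]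

theorem levTab_eq : (List.range 240).map levN = levTab := by decide +kernel

theorem profTab_eq : (List.range 240).map profN = profTab := by decide +kernel

end Cfsg.Agent.Lib.Helper36.E8C
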