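import Mathlib
import Cfsg.Prelude.Def_Chevalley

/-!
The Chevalley groups of a datum over two isomorphic fields are isomorphic.
-/

set_option autoImplicit false

namespace Cfsg.Agent.Lib.Helper36

open Cfsg.Lie

theorem chev_xMat_map {F K : Type*} [Field F] [Field K] (D : ChevalleyDatum) (f : F ≃+* K)
    (r : Fin D.nroots) (t : F) : (D.xMat F r t).map f = D.xMat K r (f t) := by
  ext row col
  simp only [Matrix.map_apply, ChevalleyDatum.xMat, Matrix.of_apply]
  rcases col with i | s
  · rcases row with i' | u
    · simp only
      split_ifs <;> simp
    · simp only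
      split_ifs <;> simp
  · simp only
    by_cases h1 : s = r
    · simp only [h1, if_true]
      rcases row with i' | u
      · simp
      · simp only
        split_ifs <;> simp
    · simp only [h1, if_false]
      by_cases h2 : s.val = D.negIdx.getD r.val 0
      · simp only [h2, if_true]
        rcases row with i' | u
        · simp
        · simp only
          split_ifs <;> simp
      · simp only [h2, if_false]
        rcases row with i' | u
        · simp
        · simp only [map_add]
          congr 1
          · split_ifs <;> simp
          · rw [map_list_sum, List.map_map]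
            congr 1
            apply List.map_congr_left
            intro a _
            simp

/-- The isomorphism of general linear groups induced by an isomorphism of fields. -/
noncomputable def chevGLMap {F K : Type*} [Field F] [Field K] (D : ChevalleyDatum) (f : F ≃+* K) :
    GL D.Idx F ≃* GL D.Idx K :=
  Units.mapEquiv (f.mapMatrix (m := D.Idx)).toMulEquiv

theorem chevGLMap_coe {F K : Type*} [Field F] [Field K] (D : ChevalleyDatum) (f : F ≃+* K)
    (g : GL D.Idx F) :
    ((chevGLMap D f g : GL D.Idx K) : Matrix D.Idx D.Idx K) = (g : Matrix D.Idx D.Idx F).map f :=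
  rfl

theorem chevGLMap_group {F K : Type*} [Field F] [Field K] (D : ChevalleyDatum) (f : F ≃+* K) :
    (D.group F).map (chevGLMap D f).toMonoidHom = D.group K := by
  unfold ChevalleyDatum.group
  rw [MonoidHom.map_closure]
  congr 1
  ext g
  constructor
  · rintro ⟨g0, ⟨r, t, h⟩, rfl⟩
    refine ⟨r, f t, ?_⟩
    show ((chevGLMap D f g0 : GL D.Idx K) : Matrix D.Idx D.Idx K) = _
    rw [chevGLMap_coe, h, chev_xMat_map]
  · rintro ⟨r, t, h⟩
    refine ⟨(chevGLMap D f).symm g, ⟨r, f.symm t, ?_⟩, ?_⟩
    · have h2 : ((chevGLMap D f ((chevGLMap D f).symm g) : GL D.Idx K) : Matrix D.Idx D.Idx K)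
          = D.xMat K r t := by
        rw [MulEquiv.apply_symm_apply]; exact h
      rw [chevGLMap_coe] at h2
      have h3 : (D.xMat F r (f.symm t)).map f = D.xMat K r t := by
        rw [chev_xMat_map]; simp
      rw [← h3] at h2
      ext i j
      have := congrFun (congrFun h2 i) j
      simp only [Matrix.map_apply] at this
      exact f.injective this
    · simp

/-- The Chevalley groups over isomorphic fields are isomorphic. -/
theorem chev_group_equiv {F K : Type*} [Field F] [Field K] (D : ChevalleyDatum) (f : F ≃+* K) :
    Nonempty (↥(D.group F) ≃* ↥(D.group K)) :=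
  ⟨((chevGLMap D f).subgroupMap (D.group F)).trans
    (MulEquiv.subgroupCongr (chevGLMap_group D f))⟩

end Cfsg.Agent.Lib.Helper36
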