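import Cfsg.Agent.Lib.Helper36.M24Max
import Cfsg.Agent.Lib.Helper36.GolayComb
import Cfsg.Agent.S1550
import Cfsg.Agent.S1557

/-!
Orbit certificates for `M24` acting on sextets (coded by the tetrad through the point `0`) and on
trios (coded by two of the three octads), and an invariant separating orbits.
-/

set_option autoImplicit false

namespace Cfsg.Agent.Lib.Helper36

open Cfsg Cfsg.Agent.Lib.Helper9
open scoped Pointwise

/-! ### `M24` acts on sextets and on trios -/

theorem disjoint_smul_finset_iff (g : Equiv.Perm GolayPt) (s t : Finset GolayPt) :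
    Disjoint (g • s) (g • t) ↔ Disjoint s t := by
  rw [Finset.disjoint_iff_inter_eq_empty, Finset.disjoint_iff_inter_eq_empty,
    ← Finset.smul_finset_inter, Finset.smul_finset_eq_empty]

theorem smul_sextet_mem {σ : Equiv.Perm GolayPt} (hσ : σ ∈ M24) {S : Finset (Finset GolayPt)}
    (hS : S ∈ sextets) : σ • S ∈ sextets := by
  obtain ⟨h6, h4, hun⟩ := hS
  refine ⟨by rw [Finset.card_smul_finset, h6], ?_, ?_⟩
  · intro x hx
    obtain ⟨t, ht, rfl⟩ := Finset.mem_smul_finset.mp hx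
    rw [Finset.card_smul_finset]
    exact h4 t ht
  · intro x hx y hy hxy
    obtain ⟨t, ht, rfl⟩ := Finset.mem_smul_finset.mp hx
    obtain ⟨u, hu, rfl⟩ := Finset.mem_smul_finset.mp hy
    rw [← Finset.smul_finset_union]
    exact smul_octad_mem hσ (hun t ht u hu (fun h => hxy (by rw [h])))

theorem smul_trio_mem {σ : Equiv.Perm GolayPt} (hσ : σ ∈ M24) {T : Finset (Finset GolayPt)}
    (hT : T ∈ trios) : σ • T ∈ trios := by
  obtain ⟨h3, hoct, hdis⟩ := hT
  refine ⟨by rw [Finset.card_smul_finset, h3], ?_, ?_⟩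
  · intro x hx
    obtain ⟨t, ht, rfl⟩ := Finset.mem_smul_finset.mp hx
    exact smul_octad_mem hσ (hoct t ht)
  · intro x hx y hy hxy
    obtain ⟨t, ht, rfl⟩ := Finset.mem_smul_finset.mp hx
    obtain ⟨u, hu, rfl⟩ := Finset.mem_smul_finset.mp hy
    rw [disjoint_smul_finset_iff]
    exact hdis t ht u hu (fun h => hxy (by rw [h]))

theorem mem_sextetOf_self (t : Finset GolayPt) : t ∈ Cfsg.Agent.S1550.sextetOf t := by
  rw [Cfsg.Agent.S1550.sextetOf]
  exact Finset.mem_insert_self _ _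

theorem smul_sextetOf {σ : Equiv.Perm GolayPt} (hσ : σ ∈ M24) {t : Finset GolayPt}
    (h4 : t.card = 4) :
    σ • Cfsg.Agent.S1550.sextetOf t = Cfsg.Agent.S1550.sextetOf (σ • t) :=
  Cfsg.Agent.S1550.sextet_eq (smul_sextet_mem hσ (Cfsg.Agent.S1550.sextetOf_mem h4))
    (Finset.smul_mem_smul_finset (mem_sextetOf_self t))

/-! ### Sextets, coded by a tetrad -/

/-- The sextet through the tetrad of a mask. -/
noncomputable def sexObj (a : ℕ) : Finset (Finset GolayPt) := Cfsg.Agent.S1550.sextetOf (ms a)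

/-- The relation for sextet codes: the pulled-back tetrad lies in the sextet of `b`. -/
def relSex (T : List ℕ) (a b : ℕ) : Bool :=
  (pull T a == b) || ((pull T a &&& b == 0) && (popc b == 4) && decide (b < 16777216) &&
    inCode (pull T a ||| b))

theorem sexObj_eq_of_octad {a b : ℕ} (ha : popc a = 4) (hb : popc b = 4) (hd : a &&& b = 0)
    (hc : inCode (a ||| b) = true) : sexObj b = sexObj a := by
  have hdisj : Disjoint (ms a) (ms b) := by
    rw [Finset.disjoint_iff_inter_eq_empty, ← ms_and, hd, ms_zero]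
  have h8 : popc (a ||| b) = 8 := by
    rw [← card_ms, ms_or, Finset.card_union_of_disjoint hdisj, card_ms, card_ms, ha, hb]
  have hoct : ms a ∪ ms b ∈ octads := by
    rw [← ms_or]; exact ms_mem_octads hc h8
  have h4 : (ms a).card = 4 := by rw [card_ms, ha]
  have hmem : ms b ∈ Cfsg.Agent.S1550.sextetOf (ms a) := by
    rw [Cfsg.Agent.S1550.sextetOf, Finset.mem_insert, Finset.mem_image]
    right
    refine ⟨ms a ∪ ms b, ?_, Finset.union_sdiff_cancel_left hdisj⟩
    rw [Finset.mem_filter, mem_blocksFin]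
    exact ⟨hoct, Finset.subset_union_left⟩
  exact (Cfsg.Agent.S1550.sextet_eq (Cfsg.Agent.S1550.sextetOf_mem h4) hmem).symm

theorem relSex_sound {σ : Equiv.Perm GolayPt} {T : List ℕ} (hσ : σ ∈ M24) (h : HasTable σ T)
    {a b : ℕ} (ha : a < 2 ^ 24 ∧ popc a = 4) (hab : relSex T a b = true) :
    (b < 2 ^ 24 ∧ popc b = 4) ∧ sexObj b = σ⁻¹ • sexObj a := by
  have hp : popc (pull T a) = 4 := by
    rw [← card_ms, ms_pull h, Finset.card_smul_finset, card_ms, ha.2]
  have h4 : (ms a).card = 4 := by rw [card_ms, ha.2]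
  have e1 : σ⁻¹ • sexObj a = sexObj (pull T a) := by
    rw [sexObj, sexObj, smul_sextetOf (M24.inv_mem hσ) h4, ms_pull h]
  rw [e1]
  simp only [relSex, Bool.or_eq_true, Bool.and_eq_true, beq_iff_eq, decide_eq_true_eq] at hab
  rcases hab with hab | ⟨⟨⟨hd, h4b⟩, hlt⟩, hc⟩
  · rw [← hab]
    exact ⟨⟨pull_lt_of_hasTable h a, hp⟩, rfl⟩
  · exact ⟨⟨hlt, h4b⟩, sexObj_eq_of_octad hp h4b hd hc⟩

theorem sexObj_inj {a b : ℕ} (ha : a < 2 ^ 24 ∧ popc a = 4) (hb : b < 2 ^ 24 ∧ popc b = 4)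
    (ca : a.testBit 0 = true) (cb : b.testBit 0 = true) (h : sexObj a = sexObj b) : a = b := by
  have h4a : (ms a).card = 4 := by rw [card_ms, ha.2]
  have h4b : (ms b).card = 4 := by rw [card_ms, hb.2]
  have hS := Cfsg.Agent.S1550.sextetOf_mem h4b
  have hma : ms a ∈ Cfsg.Agent.S1550.sextetOf (ms b) := by
    have := mem_sextetOf_self (ms a)
    rwa [show Cfsg.Agent.S1550.sextetOf (ms a) = Cfsg.Agent.S1550.sextetOf (ms b) from h] at this
  have hmb := mem_sextetOf_self (ms b)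
  apply ms_inj ha.1 hb.1
  by_contra hne
  have hoct := hS.2.2 (ms a) hma (ms b) hmb hne
  have h8 : (ms a ∪ ms b).card = 8 := hoct.2
  have hi := Finset.card_union_add_card_inter (ms a) (ms b)
  have hpt : pt 0 ∈ ms a ∩ ms b := by
    rw [Finset.mem_inter, mem_ms, mem_ms, idx_pt (by norm_num)]
    exact ⟨ca, cb⟩
  have hpos : 0 < (ms a ∩ ms b).card := Finset.card_pos.mpr ⟨_, hpt⟩
  omega

/-- Orbit certificate for sextets. -/
theorem sextet_orbit_cert (H : Subgroup (Equiv.Perm GolayPt)) (hH : H ≤ M24)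
    (tabs : List (List ℕ)) (htabs : ∀ T ∈ tabs, ∃ σ ∈ H, HasTable σ T) (Y P D G : ℕ → ℕ)
    (n r : ℕ) (hr : Y r < 2 ^ 24 ∧ popc (Y r) = 4)
    (hchk : allBelow (nodeOK tabs relSex Y P D G n r) n = true)
    (hsorted : sortedB Y n = true)
    (hcanon : allBelow (fun k => (Y k).testBit 0) n = true) :
    n ≤ ({y | ∃ σ ∈ H, σ • sexObj (Y r) = y} : Set (Finset (Finset GolayPt))).ncard := by
  have h1 := orbit_cert H tabs htabs sexObj (fun a => a < 2 ^ 24 ∧ popc a = 4) relSex
    (fun σ hσ T hT a b ha hab => relSex_sound (hH hσ) hT ha hab) Y P D G n r hr hchk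
  rw [allBelow_iff] at hcanon
  apply ncard_orbit_ge H (sexObj (Y r)) (fun k => sexObj (Y k)) n (fun k hk => (h1 k hk).2)
  intro i hi j hj hij
  exact inj_of_sortedB hsorted i hi j hj
    (sexObj_inj (h1 i hi).1 (h1 j hj).1 (hcanon i hi) (hcanon j hj) hij)

theorem tabs_stabSex {tabs : List (List ℕ)} {m : ℕ} (hm : m < 2 ^ 24 ∧ popc m = 4)
    (h : tabs.all (fun T => tabM24 T && relSex T m m) = true) :
    ∀ T ∈ tabs, ∃ σ ∈ stabIn (sexObj m), HasTable σ T := by
  intro T hT
  have h1 := List.all_eq_true.mp h T hT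
  simp only [Bool.and_eq_true] at h1
  have h2 := tabPerm_spec h1.1
  refine ⟨tabPerm T, mem_stabIn.mpr ⟨h2.1, ?_⟩, h2.2⟩
  have h3 := (relSex_sound h2.1 h2.2 hm h1.2).2
  conv_lhs => rw [h3]
  rw [smul_inv_smul]

/-! ### Trios, coded by two octads -/

/-- The trio of a code: two octads packed in one number. -/
def trioObj (c : ℕ) : Finset (Finset GolayPt) :=
  {ms (c % 16777216), ms (c / 16777216), (ms (c % 16777216) ∪ ms (c / 16777216))ᶜ}

/-- Validity of a trio code. -/
def trioValid (c : ℕ) : Prop :=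
  c / 16777216 < 16777216 ∧ ms (c % 16777216) ∈ octads ∧ ms (c / 16777216) ∈ octads ∧
    Disjoint (ms (c % 16777216)) (ms (c / 16777216))

theorem trioObj_mem {c : ℕ} (h : trioValid c) : trioObj c ∈ trios :=
  Cfsg.Agent.S1557.trio_mk h.2.1 h.2.2.1 h.2.2.2

/-- The relation for trio codes. -/
def relTrio (T : List ℕ) (c d : ℕ) : Bool :=
  (pull T (c % 16777216) == d % 16777216 || pull T (c % 16777216) == d / 16777216 ||
    pull T (c % 16777216) == 16777215 ^^^ (d % 16777216 ||| d / 16777216)) &&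
  (pull T (c / 16777216) == d % 16777216 || pull T (c / 16777216) == d / 16777216 ||
    pull T (c / 16777216) == 16777215 ^^^ (d % 16777216 ||| d / 16777216)) &&
  decide (d / 16777216 < 16777216) && inCode (d % 16777216) && (popc (d % 16777216) == 8) &&
  inCode (d / 16777216) && (popc (d / 16777216) == 8) && (d % 16777216 &&& d / 16777216 == 0)

theorem mem_trioObj_of {d x : ℕ}
    (h : x = d % 16777216 ∨ x = d / 16777216 ∨ x = 16777215 ^^^ (d % 16777216 ||| d / 16777216)) :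
    ms x ∈ trioObj d := by
  rw [trioObj, Finset.mem_insert, Finset.mem_insert, Finset.mem_singleton]
  rcases h with rfl | rfl | rfl
  · exact Or.inl rfl
  · exact Or.inr (Or.inl rfl)
  · exact Or.inr (Or.inr (by rw [ms_compl, ms_or]))

theorem relTrio_sound {σ : Equiv.Perm GolayPt} {T : List ℕ} (hσ : σ ∈ M24) (h : HasTable σ T)
    {c d : ℕ} (hc : trioValid c) (hcd : relTrio T c d = true) :
    trioValid d ∧ trioObj d = σ⁻¹ • trioObj c := by
  simp only [relTrio, Bool.or_eq_true, Bool.and_eq_true, beq_iff_eq, decide_eq_true_eq] at hcd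
  obtain ⟨⟨⟨⟨⟨⟨⟨h1, h2⟩, hlt⟩, hc1⟩, hp1⟩, hc2⟩, hp2⟩, hdis⟩ := hcd
  have hvalid : trioValid d := by
    refine ⟨hlt, ms_mem_octads hc1 hp1, ms_mem_octads hc2 hp2, ?_⟩
    rw [Finset.disjoint_iff_inter_eq_empty, ← ms_and, hdis, ms_zero]
  refine ⟨hvalid, ?_⟩
  have htrio : σ⁻¹ • trioObj c ∈ trios := smul_trio_mem (M24.inv_mem hσ) (trioObj_mem hc)
  have hm1 : ms (pull T (c % 16777216)) ∈ σ⁻¹ • trioObj c := by
    rw [ms_pull h]
    apply Finset.smul_mem_smul_finset
    rw [trioObj]; exact Finset.mem_insert_self _ _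
  have hm2 : ms (pull T (c / 16777216)) ∈ σ⁻¹ • trioObj c := by
    rw [ms_pull h]
    apply Finset.smul_mem_smul_finset
    rw [trioObj]; exact Finset.mem_insert_of_mem (Finset.mem_insert_self _ _)
  have hne : ms (pull T (c % 16777216)) ≠ ms (pull T (c / 16777216)) := by
    rw [ms_pull h, ms_pull h]
    intro he
    have he' := MulAction.injective σ⁻¹ he
    exact Cfsg.Agent.S1557.octad_ne_of_disjoint hc.2.1 hc.2.2.2 he'
  have e1 := Cfsg.Agent.S1557.trio_eq htrio hm1 hm2 hne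
  have e2 := Cfsg.Agent.S1557.trio_eq (trioObj_mem hvalid) (mem_trioObj_of (by simpa [or_assoc] using h1))
    (mem_trioObj_of (by simpa [or_assoc] using h2)) hne
  rw [e1, e2]

/-- Canonical trio codes: the three octads in increasing order. -/
def trioCanon (c : ℕ) : Bool :=
  decide (c % 16777216 < c / 16777216) &&
    decide (c / 16777216 < 16777215 ^^^ (c % 16777216 ||| c / 16777216))

theorem mem_trioObj_iff {d : ℕ} (hd : d / 16777216 < 16777216) {x : ℕ} (hx : x < 2 ^ 24) :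
    ms x ∈ trioObj d ↔
      x = d % 16777216 ∨ x = d / 16777216 ∨ x = 16777215 ^^^ (d % 16777216 ||| d / 16777216) := by
  constructor
  · intro h
    have h1 : d % 16777216 < 2 ^ 24 := Nat.mod_lt _ (by norm_num)
    have h2 : d / 16777216 < 2 ^ 24 := hd
    have h3 : 16777215 ^^^ (d % 16777216 ||| d / 16777216) < 2 ^ 24 :=
      Nat.xor_lt_two_pow (by norm_num) (Nat.or_lt_two_pow h1 h2)
    rw [trioObj, Finset.mem_insert, Finset.mem_insert, Finset.mem_singleton] at h
    rcases h with h | h | h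
    · exact Or.inl (ms_inj hx h1 h)
    · exact Or.inr (Or.inl (ms_inj hx h2 h))
    · right; right
      apply ms_inj hx h3
      rw [h, ms_compl, ms_or]
  · exact mem_trioObj_of

theorem trioObj_inj {c d : ℕ} (hc : trioValid c) (hd : trioValid d) (cc : trioCanon c = true)
    (cd : trioCanon d = true) (h : trioObj c = trioObj d) : c = d := by
  simp only [trioCanon, Bool.and_eq_true, decide_eq_true_eq] at cc cd
  have hc1 : c % 16777216 < 2 ^ 24 := Nat.mod_lt _ (by norm_num)
  have hc2 : c / 16777216 < 2 ^ 24 := hc.1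
  have hc3 : 16777215 ^^^ (c % 16777216 ||| c / 16777216) < 2 ^ 24 :=
    Nat.xor_lt_two_pow (by norm_num) (Nat.or_lt_two_pow hc1 hc2)
  have hd1 : d % 16777216 < 2 ^ 24 := Nat.mod_lt _ (by norm_num)
  have hd2 : d / 16777216 < 2 ^ 24 := hd.1
  have hd3 : 16777215 ^^^ (d % 16777216 ||| d / 16777216) < 2 ^ 24 :=
    Nat.xor_lt_two_pow (by norm_num) (Nat.or_lt_two_pow hd1 hd2)
  have a1 := (mem_trioObj_iff hd.1 hc1).mp (h ▸ mem_trioObj_of (Or.inl rfl))
  have a2 := (mem_trioObj_iff hd.1 hc2).mp (h ▸ mem_trioObj_of (Or.inr (Or.inl rfl)))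
  have a3 := (mem_trioObj_iff hd.1 hc3).mp (h ▸ mem_trioObj_of (Or.inr (Or.inr rfl)))
  have b1 := (mem_trioObj_iff hc.1 hd1).mp (h.symm ▸ mem_trioObj_of (Or.inl rfl))
  have b2 := (mem_trioObj_iff hc.1 hd2).mp (h.symm ▸ mem_trioObj_of (Or.inr (Or.inl rfl)))
  have b3 := (mem_trioObj_iff hc.1 hd3).mp (h.symm ▸ mem_trioObj_of (Or.inr (Or.inr rfl)))
  have e1 : c % 16777216 = d % 16777216 := by omega
  have e2 : c / 16777216 = d / 16777216 := by omega
  rw [← Nat.mod_add_div c 16777216, ← Nat.mod_add_div d 16777216, e1, e2]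

/-- Orbit certificate for trios. -/
theorem trio_orbit_cert (H : Subgroup (Equiv.Perm GolayPt)) (hH : H ≤ M24)
    (tabs : List (List ℕ)) (htabs : ∀ T ∈ tabs, ∃ σ ∈ H, HasTable σ T) (Y P D G : ℕ → ℕ)
    (n r : ℕ) (hr : trioValid (Y r))
    (hchk : allBelow (nodeOK tabs relTrio Y P D G n r) n = true)
    (hsorted : sortedB Y n = true)
    (hcanon : allBelow (fun k => trioCanon (Y k)) n = true) :
    n ≤ ({y | ∃ σ ∈ H, σ • trioObj (Y r) = y} : Set (Finset (Finset GolayPt))).ncard := by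
  have h1 := orbit_cert H tabs htabs trioObj trioValid relTrio
    (fun σ hσ T hT a b ha hab => relTrio_sound (hH hσ) hT ha hab) Y P D G n r hr hchk
  rw [allBelow_iff] at hcanon
  apply ncard_orbit_ge H (trioObj (Y r)) (fun k => trioObj (Y k)) n (fun k hk => (h1 k hk).2)
  intro i hi j hj hij
  exact inj_of_sortedB hsorted i hi j hj
    (trioObj_inj (h1 i hi).1 (h1 j hj).1 (hcanon i hi) (hcanon j hj) hij)

theorem tabs_stabTrio {tabs : List (List ℕ)} {c : ℕ} (hc : trioValid c)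
    (h : tabs.all (fun T => tabM24 T && relTrio T c c) = true) :
    ∀ T ∈ tabs, ∃ σ ∈ stabIn (trioObj c), HasTable σ T := by
  intro T hT
  have h1 := List.all_eq_true.mp h T hT
  simp only [Bool.and_eq_true] at h1
  have h2 := tabPerm_spec h1.1
  refine ⟨tabPerm T, mem_stabIn.mpr ⟨h2.1, ?_⟩, h2.2⟩
  have h3 := (relTrio_sound h2.1 h2.2 hc h1.2).2
  conv_lhs => rw [h3]
  rw [smul_inv_smul]

/-- Boolean validity test for trio codes. -/
def trioValidB (c : ℕ) : Bool :=
  decide (c / 16777216 < 16777216) && inCode (c % 16777216) && (popc (c % 16777216) == 8) &&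
  inCode (c / 16777216) && (popc (c / 16777216) == 8) && (c % 16777216 &&& c / 16777216 == 0)

theorem trioValid_of {c : ℕ} (h : trioValidB c = true) : trioValid c := by
  simp only [trioValidB, Bool.and_eq_true, beq_iff_eq, decide_eq_true_eq] at h
  obtain ⟨⟨⟨⟨⟨hlt, hc1⟩, hp1⟩, hc2⟩, hp2⟩, hdis⟩ := h
  refine ⟨hlt, ms_mem_octads hc1 hp1, ms_mem_octads hc2 hp2, ?_⟩
  rw [Finset.disjoint_iff_inter_eq_empty, ← ms_and, hdis, ms_zero]

end Cfsg.Agent.Lib.Helper36
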