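import Cfsg.Agent.Lib.Helper36.M24Fam

/-!
Families of sets given by lists of masks, an invariant of pairs of families, and transfer of
orbits of stabilisers along elements of `M24`.
-/

set_option autoImplicit false

namespace Cfsg.Agent.Lib.Helper36

open Cfsg Cfsg.Agent.Lib.Helper9
open scoped Pointwise

/-! ### An invariant of pairs of families -/

/-- Sum of the squared intersection sizes between the members of two families. -/
def phiF (S X : Finset (Finset GolayPt)) : ℕ := ∑ t ∈ S, ∑ u ∈ X, (t ∩ u).card ^ 2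

theorem phiF_smul (σ : Equiv.Perm GolayPt) (S X : Finset (Finset GolayPt)) :
    phiF (σ • S) (σ • X) = phiF S X := by
  unfold phiF
  rw [Finset.smul_finset_def, Finset.sum_image (fun a _ b _ h => MulAction.injective σ h)]
  apply Finset.sum_congr rfl
  intro t _
  rw [Finset.smul_finset_def, Finset.sum_image (fun a _ b _ h => MulAction.injective σ h)]
  apply Finset.sum_congr rfl
  intro u _
  rw [← Finset.smul_finset_inter, Finset.card_smul_finset]

theorem phiF_smul_right {σ : Equiv.Perm GolayPt} {S : Finset (Finset GolayPt)} (h : σ • S = S)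
    (X : Finset (Finset GolayPt)) : phiF S (σ • X) = phiF S X := by
  conv_lhs => rw [← h]
  exact phiF_smul σ S X

/-- The family of the sets of a list of masks. -/
def famL (l : List ℕ) : Finset (Finset GolayPt) := (l.map ms).toFinset

/-- The list has no repetition and consists of 24-bit masks. -/
def goodL (l : List ℕ) : Bool := nodupB l && l.all (fun a => decide (a < 16777216))

theorem goodL_spec {l : List ℕ} (h : goodL l = true) :
    (l.map ms).Nodup ∧ ∀ a ∈ l, a < 2 ^ 24 := by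
  simp only [goodL, Bool.and_eq_true, List.all_eq_true, decide_eq_true_eq] at h
  refine ⟨List.Nodup.map_on (fun x hx y hy hxy => ms_inj (h.2 x hx) (h.2 y hy) hxy)
    (nodup_of_nodupB h.1), h.2⟩

theorem card_famL {l : List ℕ} (h : goodL l = true) : (famL l).card = l.length := by
  rw [famL, List.toFinset_card_of_nodup (goodL_spec h).1, List.length_map]

theorem mem_famL {l : List ℕ} {t : Finset GolayPt} : t ∈ famL l ↔ ∃ a ∈ l, ms a = t := by
  rw [famL, List.mem_toFinset, List.mem_map]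

/-- The list version of `phiF`. -/
def phiL (l l' : List ℕ) : ℕ :=
  (l.map (fun a => (l'.map (fun b => popc (a &&& b) ^ 2)).sum)).sum

theorem phiF_famL {l l' : List ℕ} (h : goodL l = true) (h' : goodL l' = true) :
    phiF (famL l) (famL l') = phiL l l' := by
  unfold phiF phiL famL
  rw [List.sum_toFinset _ (goodL_spec h).1, List.map_map]
  refine congrArg List.sum (List.map_congr_left (fun a _ => ?_))
  show ∑ u ∈ (List.map ms l').toFinset, (ms a ∩ u).card ^ 2 = _
  rw [List.sum_toFinset _ (goodL_spec h').1, List.map_map]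
  refine congrArg List.sum (List.map_congr_left (fun b _ => ?_))
  show (ms a ∩ ms b).card ^ 2 = popc (a &&& b) ^ 2
  rw [← ms_and, card_ms]

/-- The list is a sextet: six tetrads, any two distinct ones disjoint with union a codeword. -/
def isSexL (l : List ℕ) : Bool :=
  goodL l && (l.length == 6) && l.all (fun a => popc a == 4) &&
    l.all (fun x => l.all (fun y => x == y || ((x &&& y == 0) && inCode (x ||| y))))

theorem famL_mem_sextets {l : List ℕ} (h : isSexL l = true) : famL l ∈ sextets := by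
  simp only [isSexL, Bool.and_eq_true, beq_iff_eq, List.all_eq_true, Bool.or_eq_true] at h
  obtain ⟨⟨⟨hg, h6⟩, h4⟩, hp⟩ := h
  refine ⟨by rw [card_famL hg, h6], ?_, ?_⟩
  · intro t ht
    obtain ⟨a, ha, rfl⟩ := mem_famL.mp ht
    rw [card_ms, h4 a ha]
  · intro t ht u hu htu
    obtain ⟨a, ha, rfl⟩ := mem_famL.mp ht
    obtain ⟨b, hb, rfl⟩ := mem_famL.mp hu
    rcases hp a ha b hb with hab | ⟨hd, hc⟩
    · exact absurd (by rw [hab]) htu
    · have hdisj : Disjoint (ms a) (ms b) := by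
        rw [Finset.disjoint_iff_inter_eq_empty, ← ms_and, hd, ms_zero]
      have h8 : popc (a ||| b) = 8 := by
        rw [← card_ms, ms_or, Finset.card_union_of_disjoint hdisj, card_ms, card_ms, h4 a ha,
          h4 b hb]
      rw [← ms_or]
      exact ms_mem_octads hc h8

theorem sexObj_eq_famL {l : List ℕ} (h : isSexL l = true) {a : ℕ} (ha : a ∈ l) :
    sexObj a = famL l :=
  (Cfsg.Agent.S1550.sextet_eq (famL_mem_sextets h) (mem_famL.mpr ⟨a, ha, rfl⟩)).symm

theorem trioObj_eq_famL (c : ℕ) :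
    trioObj c = famL [c % 16777216, c / 16777216, 16777215 ^^^ (c % 16777216 ||| c / 16777216)] := by
  rw [trioObj, famL]
  simp only [List.map_cons, List.map_nil, List.toFinset_cons, List.toFinset_nil,
    insert_empty_eq, ms_compl, ms_or]

/-! ### Transfer of orbits of stabilisers -/

theorem orbit_stabilizer_eq {Ω : Type*} [MulAction (Equiv.Perm GolayPt) Ω] (a x : Ω) :
    MulAction.orbit ↥(MulAction.stabilizer M24 a) x = {y | ∃ σ ∈ stabIn a, σ • x = y} := by
  ext y
  constructor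
  · rintro ⟨g, rfl⟩
    exact ⟨g.1.1, mem_stabIn.mpr ⟨g.1.2, g.2⟩, rfl⟩
  · rintro ⟨σ, hσ, rfl⟩
    rw [mem_stabIn] at hσ
    exact ⟨⟨⟨σ, hσ.1⟩, hσ.2⟩, rfl⟩

theorem orbit_stab_transfer {Ω : Type*} [MulAction (Equiv.Perm GolayPt) Ω]
    {γ : Equiv.Perm GolayPt} (hγ : γ ∈ M24) (a x : Ω) :
    {y | ∃ σ ∈ stabIn (γ • a), σ • (γ • x) = y} =
      (fun y => γ • y) '' {y | ∃ σ ∈ stabIn a, σ • x = y} := by
  ext y
  constructor
  · rintro ⟨σ, hσ, rfl⟩
    rw [mem_stabIn] at hσ
    refine ⟨(γ⁻¹ * σ * γ) • x, ⟨γ⁻¹ * σ * γ, mem_stabIn.mpr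
      ⟨M24.mul_mem (M24.mul_mem (M24.inv_mem hγ) hσ.1) hγ, ?_⟩, rfl⟩, ?_⟩
    · rw [mul_smul, mul_smul, hσ.2, inv_smul_smul]
    · show γ • (γ⁻¹ * σ * γ) • x = σ • γ • x
      rw [mul_smul, mul_smul, smul_inv_smul]
  · rintro ⟨z, ⟨τ, hτ, rfl⟩, rfl⟩
    rw [mem_stabIn] at hτ
    refine ⟨γ * τ * γ⁻¹, mem_stabIn.mpr
      ⟨M24.mul_mem (M24.mul_mem hγ hτ.1) (M24.inv_mem hγ), ?_⟩, ?_⟩
    · rw [mul_smul, mul_smul, inv_smul_smul]
      exact congrArg (γ • ·) hτ.2
    · rw [mul_smul, mul_smul, inv_smul_smul]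

theorem ncard_orbit_stab_transfer {Ω : Type*} [MulAction (Equiv.Perm GolayPt) Ω]
    {γ : Equiv.Perm GolayPt} (hγ : γ ∈ M24) (a x : Ω) :
    (MulAction.orbit ↥(MulAction.stabilizer M24 (γ • a)) (γ • x)).ncard =
      ({y | ∃ σ ∈ stabIn a, σ • x = y} : Set Ω).ncard := by
  rw [orbit_stabilizer_eq, orbit_stab_transfer hγ,
    Set.ncard_image_of_injective _ (MulAction.injective γ)]

theorem mem_orbit_stab_transfer {Ω : Type*} [MulAction (Equiv.Perm GolayPt) Ω]
    {γ : Equiv.Perm GolayPt} (hγ : γ ∈ M24) (a x y : Ω) :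
    y ∈ MulAction.orbit ↥(MulAction.stabilizer M24 (γ • a)) (γ • x) ↔
      ∃ σ ∈ stabIn a, σ • x = γ⁻¹ • y := by
  rw [orbit_stabilizer_eq, orbit_stab_transfer hγ]
  constructor
  · rintro ⟨z, hz, rfl⟩
    obtain ⟨σ, hσ, rfl⟩ := hz
    exact ⟨σ, hσ, by rw [inv_smul_smul]⟩
  · rintro ⟨σ, hσ, h⟩
    exact ⟨γ⁻¹ • y, ⟨σ, hσ, h⟩, smul_inv_smul γ y⟩

end Cfsg.Agent.Lib.Helper36
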