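import Cfsg.Agent.Lib.Helper36.M24Orb2

/-!
Maximality in `M24` of the stabiliser of an object `a`, from a partition of the `M24`-orbit of
`a` into certified orbits of the stabiliser.
-/

set_option autoImplicit false

namespace Cfsg.Agent.Lib.Helper36

open Cfsg Cfsg.Agent.Lib.Helper9
open scoped Pointwise

/-- The stabiliser of `a` in `M24`, as a subgroup of the permutation group of the points. -/
def stabIn {Ω : Type*} [MulAction (Equiv.Perm GolayPt) Ω] (a : Ω) : Subgroup (Equiv.Perm GolayPt) :=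
  M24 ⊓ MulAction.stabilizer (Equiv.Perm GolayPt) a

theorem mem_stabIn {Ω : Type*} [MulAction (Equiv.Perm GolayPt) Ω] {a : Ω}
    {σ : Equiv.Perm GolayPt} : σ ∈ stabIn a ↔ σ ∈ M24 ∧ σ • a = a :=
  Subgroup.mem_inf.trans (and_congr Iff.rfl MulAction.mem_stabilizer_iff)

theorem stabMask_eq (m : ℕ) : stabMask m = stabIn (ms m) := rfl

/-- Partition of the `M24`-orbit `A` of `a` into `{a}` and certified orbits of the stabiliser
of `a`: exact orbit sizes, and every member of `A` with the invariant of a representative lies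
in its orbit. -/
theorem stab_partition {Ω : Type*} [MulAction (Equiv.Perm GolayPt) Ω] [Finite Ω] (a : Ω) {m : ℕ}
    (x : Fin m → Ω) (n : Fin m → ℕ) (inv : Ω → ℕ) (A : Set Ω)
    (hA : ∀ y, y ∈ A ↔ ∃ σ ∈ M24, σ • a = y)
    (hx : ∀ i, x i ∈ A)
    (hinv : ∀ σ ∈ stabIn a, ∀ y, inv (σ • y) = inv y)
    (hsep : ∀ i j, inv (x i) = inv (x j) → i = j)
    (hinva : ∀ i, inv (x i) ≠ inv a)
    (hn : ∀ i, n i ≤ ({y | ∃ σ ∈ stabIn a, σ • x i = y} : Set Ω).ncard)
    (hsum : A.ncard ≤ 1 + ∑ i, n i) :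
    (∀ i, ({y | ∃ σ ∈ stabIn a, σ • x i = y} : Set Ω).ncard = n i) ∧
    (∀ y ∈ A, y = a ∨ ∃ i, ∃ σ ∈ stabIn a, σ • x i = y) ∧
    (∀ y ∈ A, ∀ i, inv y = inv (x i) → ∃ σ ∈ stabIn a, σ • x i = y) := by
  have haA : a ∈ A := (hA a).mpr ⟨1, M24.one_mem, one_smul _ _⟩
  have hAinv : ∀ y ∈ A, ∀ σ ∈ stabIn a, σ • y ∈ A := by
    intro y hy σ hσ
    obtain ⟨τ, hτ, rfl⟩ := (hA y).mp hy
    exact (hA _).mpr ⟨σ * τ, M24.mul_mem (mem_stabIn.mp hσ).1 hτ, mul_smul _ _ _⟩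
  have key := orbits_partition (stabIn a) A (Fin.cons a x : Fin (m + 1) → Ω)
    (Fin.cons 1 n : Fin (m + 1) → ℕ) inv
    (by
      intro i
      refine Fin.cases ?_ (fun j => ?_) i
      · intro σ hσ
        rw [Fin.cons_zero]
        exact hAinv a haA σ hσ
      · intro σ hσ
        rw [Fin.cons_succ]
        exact hAinv _ (hx j) σ hσ)
    (fun i σ hσ => hinv σ hσ _)
    (by
      intro i j
      refine Fin.cases ?_ (fun i' => ?_) i <;> refine Fin.cases ?_ (fun j' => ?_) j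
      · intro _; rfl
      · rw [Fin.cons_zero, Fin.cons_succ]
        intro h; exact absurd h.symm (hinva j')
      · rw [Fin.cons_zero, Fin.cons_succ]
        intro h; exact absurd h (hinva i')
      · rw [Fin.cons_succ, Fin.cons_succ]
        intro h; rw [hsep i' j' h])
    (by
      intro i
      refine Fin.cases ?_ (fun j => ?_) i
      · rw [Fin.cons_zero, Fin.cons_zero]
        exact (Set.ncard_pos (Set.toFinite _)).mpr ⟨a, 1, Subgroup.one_mem _, one_smul _ _⟩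
      · rw [Fin.cons_succ, Fin.cons_succ]
        exact hn j)
    (by
      rw [Fin.sum_univ_succ]
      simpa using hsum)
  obtain ⟨k1, k2, k3⟩ := key
  refine ⟨?_, ?_, ?_⟩
  · intro i
    have := k1 i.succ
    rwa [Fin.cons_succ, Fin.cons_succ] at this
  · intro y hy
    obtain ⟨i, hi⟩ := k2 y hy
    revert hi
    refine Fin.cases ?_ (fun j => ?_) i
    · rw [Fin.cons_zero]
      rintro ⟨σ, hσ, rfl⟩
      exact Or.inl (mem_stabIn.mp hσ).2
    · rw [Fin.cons_succ]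
      intro hi
      exact Or.inr ⟨j, hi⟩
  · intro y hy i hyi
    have := k3 y hy i.succ
    rw [Fin.cons_succ] at this
    exact this hyi

/-- Maximality of the stabiliser of `a` in `M24` from a partition of the orbit of `a` into
certified orbits of the stabiliser whose sizes admit no block. -/
theorem isCoatom_of_partition {Ω : Type*} [MulAction (Equiv.Perm GolayPt) Ω] [Finite Ω] (a : Ω)
    {m : ℕ} (x : Fin m → Ω) (n : Fin m → ℕ) (inv : Ω → ℕ) (A : Set Ω)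
    (hA : ∀ y, y ∈ A ↔ ∃ σ ∈ M24, σ • a = y)
    (hx : ∀ i, x i ∈ A)
    (hinv : ∀ σ ∈ stabIn a, ∀ y, inv (σ • y) = inv y)
    (hsep : ∀ i j, inv (x i) = inv (x j) → i = j)
    (hinva : ∀ i, inv (x i) ≠ inv a)
    (hn : ∀ i, n i ≤ ({y | ∃ σ ∈ stabIn a, σ • x i = y} : Set Ω).ncard)
    (hsum : A.ncard ≤ 1 + ∑ i, n i)
    (hm : 0 < m)
    (harith : ∀ J : Finset (Fin m), J.Nonempty →
      (1 + ∑ c ∈ J, n c) ∣ (1 + ∑ c, n c) → J = Finset.univ) :
    IsCoatom (MulAction.stabilizer M24 a) := by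
  obtain ⟨k1, k2, -⟩ := stab_partition a x n inv A hA hx hinv hsep hinva hn hsum
  apply isCoatom_stabilizer_of_suborbits a (fun c => {y | ∃ σ ∈ stabIn a, σ • x c = y}) n
  · ext y
    constructor
    · rintro ⟨g, rfl⟩
      have hy : (g : Equiv.Perm GolayPt) • a ∈ A := (hA _).mpr ⟨g, g.2, rfl⟩
      rcases k2 _ hy with h | ⟨i, hi⟩
      · exact Or.inl h
      · exact Or.inr (Set.mem_iUnion.mpr ⟨i, hi⟩)
    · rintro (rfl | hy)
      · exact ⟨1, one_smul _ _⟩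
      · obtain ⟨i, σ, hσ, rfl⟩ := Set.mem_iUnion.mp hy
        obtain ⟨τ, hτ, hτe⟩ := (hA _).mp (hx i)
        refine ⟨⟨σ * τ, M24.mul_mem (mem_stabIn.mp hσ).1 hτ⟩, ?_⟩
        show (σ * τ) • a = σ • x i
        rw [mul_smul, hτe]
  · rintro c ⟨σ, hσ, hσe⟩
    apply hinva c
    rw [← hσe, hinv σ hσ]
  · intro i j hij
    rw [Set.disjoint_left]
    rintro y ⟨σ, hσ, rfl⟩ ⟨τ, hτ, hτe⟩
    apply hij
    apply hsep
    rw [← hinv σ hσ, ← hτe, hinv τ hτ]
  · exact k1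
  · rintro c y ⟨σ, hσ, rfl⟩ z ⟨τ, hτ, rfl⟩
    have h1 : τ * σ⁻¹ ∈ stabIn a := Subgroup.mul_mem _ hτ (Subgroup.inv_mem _ hσ)
    rw [mem_stabIn] at h1
    refine ⟨⟨τ * σ⁻¹, h1.1⟩, h1.2, ?_⟩
    show (τ * σ⁻¹) • σ • x c = τ • x c
    rw [mul_smul, inv_smul_smul]
  · exact ⟨⟨0, hm⟩, x ⟨0, hm⟩, 1, Subgroup.one_mem _, one_smul _ _⟩
  · exact harith

end Cfsg.Agent.Lib.Helper36
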