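import Cfsg.Agent.Lib.Helper36.M24OctData
import Cfsg.Agent.Lib.Helper36.GolayComb

/-!
The stabiliser of an octad in `M24`: transitivity of `M24` on octads and of the octad stabiliser
on the octads meeting the octad in a given number of points.
-/

set_option autoImplicit false

namespace Cfsg.Agent.Lib.Helper36

open Cfsg Cfsg.Agent.Lib.Helper9
open scoped Pointwise

/-- The standard octad `{0, 1, 2, 3, 5, 14, 17, ∞}`. -/
def o0 : Finset GolayPt := ms 8536111

theorem o0_mem : o0 ∈ octads := ms_mem_octads (by decide +kernel) (by decide +kernel)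

/-- `M24` is transitive on octads. -/
theorem exists_smul_o0 {o : Finset GolayPt} (ho : o ∈ octads) : ∃ σ ∈ M24, σ • o0 = o := by
  have h := mask_orbit_cert M24 m24Tabs (tabs_M24 m24Tabs_ok) (arr 24 octAllY) (arr 12 octAllP)
    (arr 8 octAllD) (arr 4 octAllG) 759 528 (arr_lt _ _ _) octAll_chk octAll_sorted
  rw [octAll_root] at h
  have hsub : {y | ∃ σ ∈ M24, σ • ms 8536111 = y} ⊆ octads := by
    rintro y ⟨σ, hσ, rfl⟩
    exact smul_octad_mem hσ o0_mem
  have heq := orbit_eq_class M24 (ms 8536111) octads 759 hsub (le_of_eq ncard_octads) h.2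
  have : o ∈ {y | ∃ σ ∈ M24, σ • ms 8536111 = y} := by rw [heq]; exact ho
  exact this

theorem octads_transitive {o o' : Finset GolayPt} (ho : o ∈ octads) (ho' : o' ∈ octads) :
    ∃ σ ∈ M24, σ • o = o' := by
  obtain ⟨σ, hσ, rfl⟩ := exists_smul_o0 ho
  obtain ⟨τ, hτ, rfl⟩ := exists_smul_o0 ho'
  exact ⟨τ * σ⁻¹, M24.mul_mem hτ (M24.inv_mem hσ), by rw [mul_smul, inv_smul_smul]⟩

theorem ncard_oct_class (k : ℕ) :
    {o' : Finset GolayPt | o' ∈ octads ∧ (o0 ∩ o').card = k}.ncard = interNum octads o0 k := by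
  rw [interNum, ← Set.ncard_coe_finset]
  congr 1
  ext c
  simp [mem_blocksFin]

/-- A certified orbit of the stabiliser of the standard octad is a full intersection class. -/
theorem oct_orbit_class (k n rep : ℕ) (Y P D G : ℕ → ℕ) (r : ℕ)
    (hchk : allBelow (nodeOK octTabs relMask Y P D G n r) n = true) (hs : sortedB Y n = true)
    (hroot : Y r = rep) (hlt : rep < 2 ^ 24) (hrep1 : inCode rep = true) (hrep2 : popc rep = 8)
    (hrep3 : popc (8536111 &&& rep) = k) (hcount : interNum octads o0 k = n)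
    {o' o'' : Finset GolayPt} (ho' : o' ∈ octads) (ho'' : o'' ∈ octads)
    (hk' : (o0 ∩ o').card = k) (hk'' : (o0 ∩ o'').card = k) :
    ∃ σ ∈ stabMask 8536111, σ • o' = o'' := by
  have h := mask_orbit_cert (stabMask 8536111) octTabs (tabs_stabMask octTabs_ok) Y P D G n r
    (by rw [hroot]; exact hlt) hchk hs
  rw [hroot] at h
  have hsub : {y | ∃ σ ∈ stabMask 8536111, σ • ms rep = y} ⊆
      {o' : Finset GolayPt | o' ∈ octads ∧ (o0 ∩ o').card = k} := by
    rintro y ⟨σ, hσ, rfl⟩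
    rw [mem_stabMask] at hσ
    refine ⟨smul_octad_mem hσ.1 (ms_mem_octads hrep1 hrep2), ?_⟩
    rw [o0, card_inter_smul hσ.2, ← ms_and, card_ms, hrep3]
  have heq := orbit_eq_class (stabMask 8536111) (ms rep) _ n hsub
    (by rw [ncard_oct_class, hcount]) h.2
  have h1 : o' ∈ {y | ∃ σ ∈ stabMask 8536111, σ • ms rep = y} := by rw [heq]; exact ⟨ho', hk'⟩
  have h2 : o'' ∈ {y | ∃ σ ∈ stabMask 8536111, σ • ms rep = y} := by rw [heq]; exact ⟨ho'', hk''⟩
  obtain ⟨σ, hσ, rfl⟩ := h1
  obtain ⟨τ, hτ, rfl⟩ := h2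
  exact ⟨τ * σ⁻¹, Subgroup.mul_mem _ hτ (Subgroup.inv_mem _ hσ), by rw [mul_smul, inv_smul_smul]⟩

/-- The stabiliser of the standard octad is transitive on the octads meeting it in a given
number of points. -/
theorem oct0_transitive {o' o'' : Finset GolayPt} (ho' : o' ∈ octads) (ho'' : o'' ∈ octads)
    (h : (o0 ∩ o').card = (o0 ∩ o'').card) : ∃ σ ∈ stabMask 8536111, σ • o' = o'' := by
  have hnum := interNum_5_8_24 golay_card_pt octads_steiner o0_mem
  by_cases he : o0 = o'
  · have he' : o0 = o'' := by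
      apply octad_eq_of_inter o0_mem ho''
      rw [← h, ← he, Finset.inter_self, o0_mem.2]
      norm_num
    exact ⟨1, Subgroup.one_mem _, by rw [one_smul, ← he, ← he']⟩
  · rcases inter_card_5_8_24 golay_card_pt octads_steiner o0_mem ho' he with h0 | h2 | h4
    · exact oct_orbit_class 0 30 337856 _ _ _ _ 0 oct0_chk oct0_sorted oct0_root (by norm_num)
        (by decide +kernel) (by decide +kernel) (by decide +kernel) hnum.1 ho' ho'' h0 (h ▸ h0)
    · exact oct_orbit_class 2 448 15777 _ _ _ _ 0 oct2_chk oct2_sorted oct2_root (by norm_num)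
        (by decide +kernel) (by decide +kernel) (by decide +kernel) hnum.2.2.1 ho' ho'' h2 (h ▸ h2)
    · exact oct_orbit_class 4 280 5279 _ _ _ _ 0 oct4_chk oct4_sorted oct4_root (by norm_num)
        (by decide +kernel) (by decide +kernel) (by decide +kernel) hnum.2.2.2.2 ho' ho'' h4
        (h ▸ h4)

/-- The stabiliser of any octad is transitive on the octads meeting it in a given number of
points. -/
theorem oct_transitive {o o' o'' : Finset GolayPt} (ho : o ∈ octads) (ho' : o' ∈ octads)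
    (ho'' : o'' ∈ octads) (h : (o ∩ o').card = (o ∩ o'').card) :
    ∃ g : Equiv.Perm GolayPt, g ∈ M24 ∧ g • o = o ∧ g • o' = o'' := by
  obtain ⟨γ, hγ, rfl⟩ := exists_smul_o0 ho
  have hγi : γ⁻¹ ∈ M24 := M24.inv_mem hγ
  have e : ∀ x : Finset GolayPt, (o0 ∩ γ⁻¹ • x).card = (γ • o0 ∩ x).card := by
    intro x
    have : γ • o0 ∩ x = γ • (o0 ∩ γ⁻¹ • x) := by
      rw [Finset.smul_finset_inter, smul_inv_smul]
    rw [this, Finset.card_smul_finset]
  obtain ⟨σ, hσ, hσe⟩ := oct0_transitive (smul_octad_mem hγi ho') (smul_octad_mem hγi ho'')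
    (by rw [e, e, h])
  rw [mem_stabMask] at hσ
  refine ⟨γ * σ * γ⁻¹, M24.mul_mem (M24.mul_mem hγ hσ.1) hγi, ?_, ?_⟩
  · rw [mul_smul, mul_smul, inv_smul_smul]
    exact congrArg (γ • ·) hσ.2
  · rw [mul_smul, mul_smul, hσe, smul_inv_smul]

end Cfsg.Agent.Lib.Helper36
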