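import Cfsg.Agent.Lib.Helper36.M24Oct
import Cfsg.Agent.Lib.Helper36.M24Fam2
import Cfsg.Agent.Lib.Helper10.OctadStab

/-!
The stabiliser of an octad in `M24`: it has order `322560`, it induces the alternating group on
the octad, the pointwise stabiliser (of order 16) is regular on the 16 points outside the octad.
-/

set_option autoImplicit false

namespace Cfsg.Agent.Lib.Helper36

open Cfsg Cfsg.Agent.Lib.Helper9
open scoped Pointwise

theorem mem_iff_of_smul_eq {g : Equiv.Perm GolayPt} {o : Finset GolayPt} (h : g • o = o) :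
    ∀ x, g x ∈ o ↔ x ∈ o := by
  intro x
  have h1 := Finset.smul_mem_smul_finset_iff (a := g) (b := x) (s := o)
  rw [h] at h1
  exact h1

theorem smul_eq_of_mem_iff {g : Equiv.Perm GolayPt} {o : Finset GolayPt}
    (h : ∀ x, g x ∈ o ↔ x ∈ o) : g • o = o := by
  ext y
  rw [← Finset.inv_smul_mem_iff]
  have h1 := h (g⁻¹ • y)
  rw [← Equiv.Perm.smul_def, smul_inv_smul] at h1
  exact h1.symm

/-- The transfer between the stabiliser inside `↥M24` and `stabIn`. -/
def stabEquiv {Ω : Type*} [MulAction (Equiv.Perm GolayPt) Ω] (a : Ω) :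
    ↥(MulAction.stabilizer ↥M24 a) ≃ ↥(stabIn a) where
  toFun g := ⟨g.1.1, mem_stabIn.mpr ⟨g.1.2, g.2⟩⟩
  invFun g := ⟨⟨g.1, (mem_stabIn.mp g.2).1⟩, (mem_stabIn.mp g.2).2⟩
  left_inv _ := rfl
  right_inv _ := rfl

theorem orbit_M24_octad {o : Finset GolayPt} (ho : o ∈ octads) :
    MulAction.orbit ↥M24 o = octads := by
  ext y
  constructor
  · rintro ⟨g, rfl⟩
    exact smul_octad_mem g.2 ho
  · intro hy
    obtain ⟨σ, hσ, rfl⟩ := octads_transitive ho hy
    exact ⟨⟨σ, hσ⟩, rfl⟩

/-- The octad stabiliser has order `322560 = 2^4 * |A8|`. -/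
theorem card_stabIn_octad {o : Finset GolayPt} (ho : o ∈ octads) :
    Nat.card ↥(stabIn o) = 322560 := by
  rw [← Nat.card_congr (stabEquiv o)]
  have h1 := MulAction.index_stabilizer ↥M24 o
  rw [orbit_M24_octad ho, ncard_octads] at h1
  have h2 := Subgroup.card_mul_index (MulAction.stabilizer ↥M24 o)
  rw [h1, card_M24] at h2
  omega

/-- Restriction of the octad stabiliser to the octad. -/
def octRes (o : Finset GolayPt) : ↥(stabIn o) →* Equiv.Perm ↥o where
  toFun g := (g : Equiv.Perm GolayPt).subtypePerm (mem_iff_of_smul_eq (mem_stabIn.mp g.2).2)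
  map_one' := Equiv.ext fun _ => Subtype.ext rfl
  map_mul' := fun _ _ => Equiv.ext fun _ => Subtype.ext rfl

theorem octRes_apply (o : Finset GolayPt) (g : ↥(stabIn o)) (x : ↥o) :
    ((octRes o g) x : GolayPt) = (g : Equiv.Perm GolayPt) x := rfl

theorem fix_le_stabIn (o : Finset GolayPt) :
    M24 ⊓ fixingSubgroup (Equiv.Perm GolayPt) (o : Set GolayPt) ≤ stabIn o := by
  intro g hg
  refine mem_stabIn.mpr ⟨hg.1, ?_⟩
  have h2 := (mem_fixingSubgroup_iff _).mp hg.2
  apply smul_eq_of_mem_iff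
  intro x
  constructor
  · intro hx
    by_contra hx'
    have h3 := h2 (g x) (Finset.mem_coe.mpr hx)
    rw [Equiv.Perm.smul_def] at h3
    exact hx' (by rw [← g.injective h3]; exact hx)
  · intro hx
    have h3 := h2 x (Finset.mem_coe.mpr hx)
    rw [Equiv.Perm.smul_def] at h3
    rw [h3]; exact hx

theorem ker_octRes (o : Finset GolayPt) :
    (octRes o).ker =
      (M24 ⊓ fixingSubgroup (Equiv.Perm GolayPt) (o : Set GolayPt)).subgroupOf (stabIn o) := by
  ext g
  rw [MonoidHom.mem_ker, Subgroup.mem_subgroupOf, Subgroup.mem_inf, mem_fixingSubgroup_iff]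
  constructor
  · intro h
    refine ⟨(mem_stabIn.mp g.2).1, fun y hy => ?_⟩
    have h1 := congrArg (fun e : Equiv.Perm ↥o => ((e ⟨y, Finset.mem_coe.mp hy⟩ : ↥o) : GolayPt)) h
    exact h1
  · rintro ⟨-, h⟩
    apply Equiv.ext
    intro x
    apply Subtype.ext
    exact h x.1 (Finset.mem_coe.mpr x.2)

theorem card_ker_octRes {o : Finset GolayPt} (ho : o ∈ octads) :
    Nat.card ↥(octRes o).ker = 16 := by
  rw [ker_octRes, Nat.card_congr (Subgroup.subgroupOfEquivOfLe (fix_le_stabIn o)).toEquiv]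
  exact (Cfsg.Agent.Lib.Helper10.octad_pointwise o ho).1

theorem card_range_octRes {o : Finset GolayPt} (ho : o ∈ octads) :
    Nat.card ↥(octRes o).range = 20160 := by
  have h1 := Subgroup.card_mul_index (octRes o).ker
  rw [Subgroup.index_ker, card_ker_octRes ho, card_stabIn_octad ho] at h1
  omega

/-- The octad stabiliser induces the alternating group on the octad. -/
theorem range_octRes {o : Finset GolayPt} (ho : o ∈ octads) :
    (octRes o).range = alternatingGroup ↥o := by
  apply Equiv.Perm.eq_alternatingGroup_of_index_eq_two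
  have h1 := Subgroup.card_mul_index (octRes o).range
  have h2 : Nat.card (Equiv.Perm ↥o) = 40320 := by
    rw [Nat.card_perm, Nat.card_eq_fintype_card, Fintype.card_coe, card_octad ho]
    rfl
  rw [card_range_octRes ho, h2] at h1
  omega

theorem mem_range_octRes_iff (o : Finset GolayPt) (e : Equiv.Perm ↥o) :
    e ∈ (octRes o).range ↔
      ∃ g : Equiv.Perm GolayPt, g ∈ M24 ∧ ∃ h : (∀ x, g x ∈ o ↔ x ∈ o), g.subtypePerm h = e := by
  constructor
  · rintro ⟨g, rfl⟩
    exact ⟨g.1, (mem_stabIn.mp g.2).1, mem_iff_of_smul_eq (mem_stabIn.mp g.2).2, rfl⟩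
  · rintro ⟨g, hg, h, rfl⟩
    exact ⟨⟨g, mem_stabIn.mpr ⟨hg, smul_eq_of_mem_iff h⟩⟩, rfl⟩

end Cfsg.Agent.Lib.Helper36
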