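import Mathlib
import Cfsg.Prelude.Def_Sporadic_a
import Cfsg.Agent.Lib.Helper9.M24Chain

/-!
Kernel-checkable orbit certificates for subgroups of `M24` (on top of helper9's table model).

* `ms m`: the finset of points of a 24-bit mask.
* `tabPerm T`: the permutation of a bijective table; `tabPerm_mem` (in `M24` when `tabOK`).
* `allBelow`, `orbit_cert`: a Schreier-tree certificate (arrays given as functions `ℕ → ℕ`,
  typically decoded from one big numeral) proving that all listed objects lie in one orbit.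
-/

set_option autoImplicit false

namespace Cfsg.Agent.Lib.Helper36

open Cfsg Cfsg.Agent.Lib.Helper9
open scoped Pointwise

/-! ### Masks as finsets -/

/-- The set of points of a mask. -/
def ms (m : ℕ) : Finset GolayPt := support₂ (dec m)

theorem mem_ms (m : ℕ) (p : GolayPt) : p ∈ ms m ↔ m.testBit (idx p) = true := by
  rw [ms, mem_support₂, dec_ne_zero_iff]

theorem card_ms (m : ℕ) : (ms m).card = popc m := by
  rw [ms, card_support₂, hammingNorm_dec]

theorem ms_inj {a b : ℕ} (ha : a < 2 ^ 24) (hb : b < 2 ^ 24) (h : ms a = ms b) : a = b :=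
  dec_injOn ha hb (support₂_injective h)

theorem ms_and (a b : ℕ) : ms (a &&& b) = ms a ∩ ms b := by
  ext p
  simp only [Finset.mem_inter, mem_ms, Nat.testBit_and, Bool.and_eq_true]

theorem ms_or (a b : ℕ) : ms (a ||| b) = ms a ∪ ms b := by
  ext p
  simp only [Finset.mem_union, mem_ms, Nat.testBit_or, Bool.or_eq_true]

theorem ms_xor (a b : ℕ) : ms (a ^^^ b) = symmDiff (ms a) (ms b) := by
  ext p
  simp only [Finset.mem_symmDiff, mem_ms, Nat.testBit_xor]
  cases a.testBit (idx p) <;> cases b.testBit (idx p) <;> simp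

theorem ms_compl (a : ℕ) : ms (16777215 ^^^ a) = (ms a)ᶜ := by
  ext p
  simp only [Finset.mem_compl, mem_ms, Nat.testBit_xor, testBit_all]
  cases a.testBit (idx p) <;> simp

theorem ms_zero : ms 0 = ∅ := by
  ext p
  simp [mem_ms]

theorem ms_full : ms 16777215 = Finset.univ := by
  ext p
  simp [mem_ms, testBit_all]

theorem ms_pull {σ : Equiv.Perm GolayPt} {T : List ℕ} (h : HasTable σ T) (b : ℕ) :
    ms (pull T b) = σ⁻¹ • ms b := by
  rw [ms, ms, smul_support₂, inv_inv, dec_comp_of_table h.1 h.2]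

theorem pull_lt_of_hasTable {σ : Equiv.Perm GolayPt} {T : List ℕ} (h : HasTable σ T) (b : ℕ) :
    pull T b < 2 ^ 24 := by
  have := pull_lt T b
  rwa [h.length_eq] at this

theorem ms_mem_octads {m : ℕ} (h1 : inCode m = true) (h2 : popc m = 8) : ms m ∈ octads :=
  (mem_octads_iff _).mpr ⟨m, mem_sums_of_inCode h1, h2, rfl⟩

theorem ms_mem_dodecads {m : ℕ} (h1 : inCode m = true) (h2 : popc m = 12) : ms m ∈ dodecads :=
  (mem_dodecads_iff _).mpr ⟨m, mem_sums_of_inCode h1, h2, rfl⟩

/-- Every finset of points is the set of a mask below `2 ^ 24`. -/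
theorem exists_ms (s : Finset GolayPt) : ∃ m, m < 2 ^ 24 ∧ ms m = s := by
  classical
  refine ⟨Nat.ofBits (fun i : Fin 24 => decide (pt i.1 ∈ s)), Nat.ofBits_lt_two_pow _, ?_⟩
  ext q
  rw [mem_ms, Nat.testBit_ofBits, dif_pos (idx_lt q)]
  simp only [pt_idx, decide_eq_true_eq]

/-! ### Permutations from tables -/

/-- The function of a table. -/
def tabFun (T : List ℕ) : GolayPt → GolayPt := fun p => pt (T.getD (idx p) 0)

/-- Boolean no-duplicates test. -/
def nodupB : List ℕ → Bool
  | [] => true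
  | a :: l => !(l.contains a) && nodupB l

theorem nodup_of_nodupB : ∀ {l : List ℕ}, nodupB l = true → l.Nodup
  | [], _ => List.nodup_nil
  | a :: l, h => by
    simp only [nodupB, Bool.and_eq_true, Bool.not_eq_eq_eq_not, Bool.not_true,
      List.contains_eq_mem, decide_eq_false_iff_not] at h
    exact List.nodup_cons.mpr ⟨h.1, nodup_of_nodupB h.2⟩

/-- The table is valid and has no repetitions. -/
def tabBij (T : List ℕ) : Bool := tableValid T && nodupB T

theorem tabFun_injective {T : List ℕ} (h : tabBij T = true) : Function.Injective (tabFun T) := by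
  simp only [tabBij, Bool.and_eq_true] at h
  obtain ⟨hv, hn⟩ := h
  have hv' := (tableValid_iff T).mp hv
  have hnd := nodup_of_nodupB hn
  intro p q hpq
  have hp : idx p < T.length := by rw [hv'.1]; exact idx_lt p
  have hq : idx q < T.length := by rw [hv'.1]; exact idx_lt q
  have h1 : T.getD (idx p) 0 < 24 := by
    rw [List.getD_eq_getElem _ _ hp]; exact hv'.2 _ (List.getElem_mem hp)
  have h2 : T.getD (idx q) 0 < 24 := by
    rw [List.getD_eq_getElem _ _ hq]; exact hv'.2 _ (List.getElem_mem hq)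
  have h3 : T.getD (idx p) 0 = T.getD (idx q) 0 := by
    have := congrArg idx hpq
    simp only [tabFun] at this
    rwa [idx_pt h1, idx_pt h2] at this
  rw [List.getD_eq_getElem _ _ hp, List.getD_eq_getElem _ _ hq] at h3
  exact idx_injective ((List.Nodup.getElem_inj_iff hnd).mp h3)

/-- The permutation of a table (the identity when the table is not bijective). -/
noncomputable def tabPerm (T : List ℕ) : Equiv.Perm GolayPt := by
  classical
  exact if h : Function.Bijective (tabFun T) then Equiv.ofBijective _ h else 1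

theorem hasTable_tabPerm {T : List ℕ} (h : tabBij T = true) : HasTable (tabPerm T) T := by
  have hb : Function.Bijective (tabFun T) :=
    Finite.injective_iff_bijective.mp (tabFun_injective h)
  simp only [tabBij, Bool.and_eq_true] at h
  refine ⟨h.1, fun p => ?_⟩
  rw [tabPerm, dif_pos hb]
  rfl

theorem tabPerm_mem_M24 {T : List ℕ} (h : tabBij T = true) (hok : tableOK T = true) :
    tabPerm T ∈ M24 :=
  mem_M24_of_table T (hasTable_tabPerm h).2 hok

/-- Combined test: bijective table of an element of `M24`. -/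
def tabM24 (T : List ℕ) : Bool := tabBij T && tableOK T

theorem tabPerm_spec {T : List ℕ} (h : tabM24 T = true) :
    tabPerm T ∈ M24 ∧ HasTable (tabPerm T) T := by
  simp only [tabM24, Bool.and_eq_true] at h
  exact ⟨tabPerm_mem_M24 h.1 h.2, hasTable_tabPerm h.1⟩

/-! ### Bounded universal checks and arrays -/

/-- `f k` holds for all `k < n`. -/
def allBelow (f : ℕ → Bool) : ℕ → Bool
  | 0 => true
  | k + 1 => f k && allBelow f k

theorem allBelow_iff {f : ℕ → Bool} {n : ℕ} : allBelow f n = true ↔ ∀ k < n, f k = true := by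
  induction n with
  | zero => simp [allBelow]
  | succ n ih =>
    simp only [allBelow, Bool.and_eq_true, ih]
    constructor
    · rintro ⟨h1, h2⟩ k hk
      rcases Nat.lt_succ_iff_lt_or_eq.mp hk with h | rfl
      · exact h2 k h
      · exact h1
    · intro h
      exact ⟨h n (Nat.lt_succ_self n), fun k hk => h k (Nat.lt_succ_of_lt hk)⟩

/-- Entry `k` of an array of `w`-bit numbers packed into one numeral. -/
def arr (w N k : ℕ) : ℕ := N / 2 ^ (w * k) % 2 ^ w

theorem arr_lt (w N k : ℕ) : arr w N k < 2 ^ w := Nat.mod_lt _ (Nat.two_pow_pos w)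

/-- Strictly increasing check. -/
def sortedB (Y : ℕ → ℕ) (n : ℕ) : Bool := allBelow (fun k => decide (Y k < Y (k + 1))) (n - 1)

theorem lt_of_sortedB {Y : ℕ → ℕ} {n : ℕ} (h : sortedB Y n = true) :
    ∀ i j, i < j → j < n → Y i < Y j := by
  rw [sortedB, allBelow_iff] at h
  intro i j hij hj
  induction j with
  | zero => omega
  | succ j ih =>
    have h1 : Y j < Y (j + 1) := by
      have := h j (by omega)
      simpa using this
    rcases Nat.lt_succ_iff_lt_or_eq.mp hij with h2 | rfl
    · exact lt_trans (ih h2 (by omega)) h1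
    · exact h1

theorem inj_of_sortedB {Y : ℕ → ℕ} {n : ℕ} (h : sortedB Y n = true) :
    ∀ i < n, ∀ j < n, Y i = Y j → i = j := by
  intro i hi j hj hij
  rcases Nat.lt_trichotomy i j with h1 | h1 | h1
  · exact absurd hij (ne_of_lt (lt_of_sortedB h i j h1 hj))
  · exact h1
  · exact absurd hij.symm (ne_of_lt (lt_of_sortedB h j i h1 hi))

/-! ### Schreier-tree certificates -/

section OrbitCert

variable {Ω : Type*} [MulAction (Equiv.Perm GolayPt) Ω]

/-- One node of a Schreier-tree certificate: node `k` is the root `r`, or it is related by the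
table number `G k` to its parent `P k`, which has smaller depth. -/
def nodeOK (tabs : List (List ℕ)) (rel : List ℕ → ℕ → ℕ → Bool) (Y P D G : ℕ → ℕ) (n r k : ℕ) :
    Bool :=
  k == r || (decide (P k < n) && decide (D (P k) < D k) &&
    rel (tabs.getD (G k) idT) (Y (P k)) (Y k))

theorem exists_hasTable_getD (H : Subgroup (Equiv.Perm GolayPt)) (tabs : List (List ℕ))
    (htabs : ∀ T ∈ tabs, ∃ σ ∈ H, HasTable σ T) (i : ℕ) :
    ∃ σ ∈ H, HasTable σ (tabs.getD i idT) := by
  by_cases hi : i < tabs.length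
  · rw [List.getD_eq_getElem _ _ hi]
    exact htabs _ (List.getElem_mem hi)
  · rw [List.getD_eq_default _ _ (by omega)]
    exact ⟨1, H.one_mem, hasTable_one⟩

/-- Soundness of Schreier-tree certificates: all listed objects are valid and lie in the orbit
of the root under `H`. -/
theorem orbit_cert (H : Subgroup (Equiv.Perm GolayPt)) (tabs : List (List ℕ))
    (htabs : ∀ T ∈ tabs, ∃ σ ∈ H, HasTable σ T)
    (obj : ℕ → Ω) (valid : ℕ → Prop) (rel : List ℕ → ℕ → ℕ → Bool)
    (hrel : ∀ σ ∈ H, ∀ T, HasTable σ T → ∀ a b, valid a → rel T a b = true →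
        valid b ∧ obj b = σ⁻¹ • obj a)
    (Y P D G : ℕ → ℕ) (n r : ℕ) (hr : valid (Y r))
    (hchk : allBelow (nodeOK tabs rel Y P D G n r) n = true) :
    ∀ k < n, valid (Y k) ∧ ∃ σ ∈ H, σ • obj (Y r) = obj (Y k) := by
  rw [allBelow_iff] at hchk
  have key : ∀ d k, k < n → D k = d → valid (Y k) ∧ ∃ σ ∈ H, σ • obj (Y r) = obj (Y k) := by
    intro d
    induction d using Nat.strong_induction_on with
    | _ d ih =>
      intro k hk hd
      have h := hchk k hk
      simp only [nodeOK, Bool.or_eq_true, beq_iff_eq, Bool.and_eq_true, decide_eq_true_eq] at h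
      rcases h with rfl | ⟨⟨hP, hD⟩, hR⟩
      · exact ⟨hr, 1, H.one_mem, one_smul _ _⟩
      · obtain ⟨hv, τ, hτ, hτe⟩ := ih (D (P k)) (by rw [← hd]; exact hD) (P k) hP rfl
        obtain ⟨σ, hσ, hT⟩ := exists_hasTable_getD H tabs htabs (G k)
        obtain ⟨hvk, hobj⟩ := hrel σ hσ _ hT _ _ hv hR
        refine ⟨hvk, σ⁻¹ * τ, H.mul_mem (H.inv_mem hσ) hτ, ?_⟩
        rw [mul_smul, hτe, hobj]
  intro k hk
  exact key (D k) k hk rfl

/-- Lower bound for the size of an orbit from a list of distinct members. -/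
theorem ncard_orbit_ge [Finite Ω] (H : Subgroup (Equiv.Perm GolayPt)) (x : Ω) (f : ℕ → Ω) (n : ℕ)
    (hmem : ∀ k < n, ∃ σ ∈ H, σ • x = f k) (hinj : ∀ i < n, ∀ j < n, f i = f j → i = j) :
    n ≤ ({y | ∃ σ ∈ H, σ • x = y} : Set Ω).ncard := by
  classical
  have h1 : ((Finset.range n).image f).card = n := by
    rw [Finset.card_image_of_injOn, Finset.card_range]
    intro i hi j hj hij
    exact hinj i (Finset.mem_range.mp hi) j (Finset.mem_range.mp hj) hij
  rw [← h1, ← Set.ncard_coe_finset]
  apply Set.ncard_le_ncard _ (Set.toFinite _)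
  intro y hy
  rw [Finset.mem_coe, Finset.mem_image] at hy
  obtain ⟨k, hk, rfl⟩ := hy
  exact hmem k (Finset.mem_range.mp hk)

/-- If an orbit lies in a class with at most `n` members and has at least `n` members, it is
the whole class. -/
theorem orbit_eq_class [Finite Ω] (H : Subgroup (Equiv.Perm GolayPt)) (x : Ω) (C : Set Ω) (n : ℕ)
    (hsub : {y | ∃ σ ∈ H, σ • x = y} ⊆ C) (hC : C.ncard ≤ n)
    (hn : n ≤ ({y | ∃ σ ∈ H, σ • x = y} : Set Ω).ncard) :
    {y | ∃ σ ∈ H, σ • x = y} = C :=
  Set.eq_of_subset_of_ncard_le hsub (hC.trans hn) (Set.toFinite _)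

end OrbitCert

/-! ### Orbits on masks -/

/-- The relation for masks: the pulled-back mask is the given one. -/
def relMask (T : List ℕ) (a b : ℕ) : Bool := pull T a == b

theorem relMask_sound {σ : Equiv.Perm GolayPt} {T : List ℕ} (h : HasTable σ T) {a b : ℕ}
    (hab : relMask T a b = true) : b < 2 ^ 24 ∧ ms b = σ⁻¹ • ms a := by
  rw [relMask, beq_iff_eq] at hab
  rw [← hab]
  exact ⟨pull_lt_of_hasTable h a, ms_pull h a⟩

/-- Orbit certificate for masks: the listed masks are distinct members of the orbit of the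
root mask under `H`. -/
theorem mask_orbit_cert (H : Subgroup (Equiv.Perm GolayPt)) (tabs : List (List ℕ))
    (htabs : ∀ T ∈ tabs, ∃ σ ∈ H, HasTable σ T) (Y P D G : ℕ → ℕ) (n r : ℕ)
    (hr : Y r < 2 ^ 24)
    (hchk : allBelow (nodeOK tabs relMask Y P D G n r) n = true)
    (hsorted : sortedB Y n = true) :
    (∀ k < n, ∃ σ ∈ H, σ • ms (Y r) = ms (Y k)) ∧
      n ≤ ({y | ∃ σ ∈ H, σ • ms (Y r) = y} : Set (Finset GolayPt)).ncard := by
  have h1 := orbit_cert H tabs htabs ms (fun a => a < 2 ^ 24) relMask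
    (fun σ _ T hT a b _ hab => relMask_sound hT hab) Y P D G n r hr hchk
  refine ⟨fun k hk => (h1 k hk).2, ?_⟩
  apply ncard_orbit_ge H (ms (Y r)) (fun k => ms (Y k)) n (fun k hk => (h1 k hk).2)
  intro i hi j hj hij
  exact inj_of_sortedB hsorted i hi j hj (ms_inj (h1 i hi).1 (h1 j hj).1 hij)

/-! ### Subgroups given by tables -/

theorem tabs_M24 {tabs : List (List ℕ)} (h : tabs.all tabM24 = true) :
    ∀ T ∈ tabs, ∃ σ ∈ M24, HasTable σ T := by
  intro T hT
  have := tabPerm_spec (List.all_eq_true.mp h T hT)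
  exact ⟨tabPerm T, this.1, this.2⟩

/-- The subgroup of `M24` stabilising the set of a mask. -/
def stabMask (m : ℕ) : Subgroup (Equiv.Perm GolayPt) :=
  M24 ⊓ MulAction.stabilizer (Equiv.Perm GolayPt) (ms m)

theorem mem_stabMask {m : ℕ} {σ : Equiv.Perm GolayPt} :
    σ ∈ stabMask m ↔ σ ∈ M24 ∧ σ • ms m = ms m :=
  Subgroup.mem_inf.trans (and_congr Iff.rfl MulAction.mem_stabilizer_iff)

theorem smul_eq_of_pull {σ : Equiv.Perm GolayPt} {T : List ℕ} (h : HasTable σ T) {m : ℕ}
    (hm : pull T m = m) : σ • ms m = ms m := by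
  have h1 := ms_pull h m
  rw [hm] at h1
  conv_lhs => rw [h1]
  rw [smul_inv_smul]

theorem tabs_stabMask {tabs : List (List ℕ)} {m : ℕ}
    (h : tabs.all (fun T => tabM24 T && pull T m == m) = true) :
    ∀ T ∈ tabs, ∃ σ ∈ stabMask m, HasTable σ T := by
  intro T hT
  have h1 := List.all_eq_true.mp h T hT
  simp only [Bool.and_eq_true, beq_iff_eq] at h1
  have h2 := tabPerm_spec h1.1
  exact ⟨tabPerm T, mem_stabMask.mpr ⟨h2.1, smul_eq_of_pull h2.2 h1.2⟩, h2.2⟩

theorem card_inter_smul {σ : Equiv.Perm GolayPt} {a : Finset GolayPt} (h : σ • a = a)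
    (b : Finset GolayPt) : (a ∩ σ • b).card = (a ∩ b).card := by
  conv_lhs => rw [← h]
  rw [← Finset.smul_finset_inter, Finset.card_smul_finset]

theorem smul_dodecad_mem {σ : Equiv.Perm GolayPt} (hσ : σ ∈ M24) {b : Finset GolayPt}
    (hb : b ∈ dodecads) : σ • b ∈ dodecads := by
  obtain ⟨⟨w, hw, rfl⟩, hcard⟩ := hb
  refine ⟨⟨w ∘ ⇑σ⁻¹, comp_mem_of_mem_M24 (M24.inv_mem hσ) hw, (smul_support₂ σ w).symm⟩, ?_⟩
  rw [Finset.card_smul_finset]
  exact hcard

end Cfsg.Agent.Lib.Helper36
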