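import Mathlib

/-! Project T2 (S1074, helper99), piece T2-ENUM: cardinality of a subgroup from an enumeration. -/

set_option autoImplicit false

namespace Cfsg.Agent.Lib.Helper99.T2
open scoped commutatorElement

theorem t2_card_of_enum {Γ : Type*} [Group Γ] (W : Subgroup Γ) (N : ℕ) (w : ℕ → Γ)
    (hmem : ∀ e, w e ∈ W) (hsurj : ∀ g ∈ W, ∃ e : Fin N, g = w e)
    (hinj : ∀ e < N, ∀ e' < N, w e = w e' → e = e') : Nat.card W = N := by
  have hb : Function.Bijective (fun e : Fin N => (⟨w e, hmem e⟩ : W)) := by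
    constructor
    · intro a b hab
      exact Fin.ext (hinj a a.2 b b.2 (congrArg Subtype.val hab))
    · rintro ⟨g, hg⟩
      obtain ⟨e, he⟩ := hsurj g hg
      exact ⟨e, Subtype.ext he.symm⟩
  rw [← Nat.card_eq_of_bijective _ hb, Nat.card_fin]

end Cfsg.Agent.Lib.Helper99.T2
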